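import Cfsg.Agent.Transfer.Frobenius
import Cfsg.Agent.Coprime.Action
import Cfsg.Agent.PGroups.Basic
import Cfsg.Agent.PGroups.Commutators

/-!
Coprime elements on `p`-groups: cyclic subgroups, chains, small elements.
-/

set_option linter.style.haveILetI false
set_option linter.unusedSectionVars false

namespace Cfsg.Lib.HSub

open Subgroup
open scoped commutatorElement

variable {G : Type*} [Group G] [Finite G] {p : ℕ} [Fact p.Prime]

/-- `p` is at most every prime divisor of the group order -/
def Least (G : Type*) [Group G] (p : ℕ) : Prop :=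
  ∀ q : ℕ, q.Prime → q ∣ Nat.card G → p ≤ q

theorem Least.subgroup (h : Least G p) (H : Subgroup G) : Least ↥H p :=
  fun q hq hqd => h q hq (hqd.trans (card_subgroup_dvd_card H))

theorem Least.quotient (h : Least G p) (N : Subgroup G) [N.Normal] : Least (G ⧸ N) p :=
  fun q hq hqd => h q hq (hqd.trans (by rw [← Subgroup.index_eq_card]; exact N.index_dvd_card))

theorem orderOf_coprime_pow {g : G} (hg : (orderOf g).Coprime p) {x : G} {k : ℕ}
    (hx : x ^ p ^ k = 1) : (orderOf g).Coprime (orderOf x) :=
  Nat.Coprime.coprime_dvd_right (orderOf_dvd_of_pow_eq_one hx) (hg.pow_right k)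

/-- a coprime element stabilizing a chain fixes the element -/
theorem fixed_of_chain {g x u : G} {k : ℕ} (hg : (orderOf g).Coprime p)
    (hu : u ^ p ^ k = 1) (hgu : Commute g u) (h : g * x * g⁻¹ = x * u) : Commute g x := by
  have key : ∀ n : ℕ, g ^ n * x * (g ^ n)⁻¹ = x * u ^ n := by
    intro n
    induction n with
    | zero => simp
    | succ n ih =>
      calc g ^ (n + 1) * x * (g ^ (n + 1))⁻¹ = g * (g ^ n * x * (g ^ n)⁻¹) * g⁻¹ := by
            rw [pow_succ']; group
        _ = g * (x * u ^ n) * g⁻¹ := by rw [ih]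
        _ = (g * x * g⁻¹) * (g * u ^ n * g⁻¹) := by group
        _ = x * u * u ^ n := by rw [h, (hgu.pow_right n).eq, mul_inv_cancel_right]
        _ = x * u ^ (n + 1) := by rw [pow_succ', mul_assoc]
  have h1 := key (orderOf g)
  rw [pow_orderOf_eq_one, one_mul, inv_one, mul_one, left_eq_mul] at h1
  have h2 : u = 1 := orderOf_eq_one_iff.mp (Nat.eq_one_of_dvd_coprimes (orderOf_coprime_pow hg hu)
    (orderOf_dvd_of_pow_eq_one h1) dvd_rfl)
  rw [h2, mul_one] at h
  exact mul_inv_eq_iff_eq_mul.mp h

/-- with `p` least, a coprime element normalizing a cyclic `p`-group centralizes it -/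
theorem commute_of_normalizes_zpowers (hmin : Least G p) {g x : G} (hg : (orderOf g).Coprime p)
    {k : ℕ} (hx : x ^ p ^ k = 1) (h : g * x * g⁻¹ ∈ zpowers x) : Commute g x := by
  obtain ⟨l, -, hl⟩ := (Nat.dvd_prime_pow Fact.out).mp (orderOf_dvd_of_pow_eq_one hx)
  cases l with
  | zero =>
    obtain rfl : x = 1 := orderOf_eq_one_iff.mp (by simpa using hl)
    exact Commute.one_right g
  | succ l =>
    have hgN : g ∈ normalizer (zpowers x : Set G) := by
      rw [← Cfsg.Lib.Transfer.map_conj_eq_self_iff]
      refine Subgroup.eq_of_le_of_card_ge ?_ (le_of_eq ?_)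
      · rw [MonoidHom.map_zpowers, zpowers_le]; exact h
      · exact (Cfsg.Lib.Transfer.card_map_conj _ g).symm
    set a := (zpowers x).normalizerMonoidHom ⟨g, hgN⟩ with ha
    have h1 : orderOf a ∣ orderOf g := (orderOf_map_dvd _ _).trans (by rw [Subgroup.orderOf_mk])
    have h2 : orderOf a ∣ p ^ l * (p - 1) := by
      have := orderOf_dvd_natCard a
      rwa [IsCyclic.card_mulAut, Nat.card_zpowers, hl, Nat.totient_prime_pow Fact.out l.succ_pos] at this
    have hcop : (orderOf g).Coprime (p ^ l * (p - 1)) := by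
      refine Nat.Coprime.mul_right (hg.pow_right l) (Nat.coprime_of_dvd fun q hq hq1 hq2 => ?_)
      have h3 := hmin q hq (hq1.trans (_root_.orderOf_dvd_natCard g))
      have h4 := Nat.le_of_dvd (by have := (Fact.out : p.Prime).two_le; omega) hq2
      have := (Fact.out : p.Prime).two_le
      omega
    have h5 : a = 1 := orderOf_eq_one_iff.mp (Nat.eq_one_of_dvd_coprimes hcop h1 h2)
    have h6 := congrArg Subtype.val (DFunLike.congr_fun h5 (⟨x, mem_zpowers x⟩ : zpowers x))
    exact mul_inv_eq_iff_eq_mul.mp h6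

theorem commute_of_small_aux (n : ℕ) : ∀ Q : Subgroup G, Nat.card Q ≤ n → IsPGroup p Q →
    ∀ g ∈ normalizer (Q : Set G), (orderOf g).Coprime p →
    (∀ x ∈ Q, x ^ p = 1 → Commute g x) → (p = 2 → ∀ x ∈ Q, x ^ 4 = 1 → Commute g x) →
    ∀ x ∈ Q, Commute g x := by
  induction n with
  | zero => intro Q hQ; have := Nat.card_pos (α := Q); omega
  | succ n ih =>
    intro Q hQn hQ g hg hcop h1 h4
    obtain ⟨k, hk⟩ := IsPGroup.iff_card.mp hQ
    have hA : zpowers g ≤ normalizer (Q : Set G) := zpowers_le.mpr hg
    have hcopA : (Nat.card (zpowers g)).Coprime (Nat.card Q) := by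
      rw [Nat.card_zpowers, hk]; exact hcop.pow_right k
    have hsmall : ∀ R : Subgroup G, R < Q → g ∈ normalizer (R : Set G) → ∀ x ∈ R, Commute g x := by
      intro R hR hgR
      have hlt : Nat.card R < Nat.card Q := by
        refine lt_of_le_of_ne (Subgroup.card_le_of_le hR.le) fun he => hR.ne ?_
        exact Subgroup.eq_of_le_of_card_ge hR.le he.ge
      exact ih R (by omega) (hQ.to_le hR.le) g hgR hcop (fun x hx => h1 x (hR.le hx))
        fun h2 x hx => h4 h2 x (hR.le hx)
    set K := ⁅Q, zpowers g⁆ with hK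
    have hKQ : K ≤ Q := Cfsg.Lib.Coprime.commutator_le_of_le_normalizer hA
    by_cases hKQe : K = Q
    · -- `Q = [Q, g]`
      haveI : Group.IsNilpotent Q := hQ.isNilpotent
      set F : Subgroup G := (frattini Q).map Q.subtype with hF
      have hFQ : F ≤ Q := map_subtype_le _
      by_cases hQ1 : Q = ⊥
      · intro x hx
        rw [hQ1, mem_bot] at hx
        rw [hx]; exact Commute.one_right g
      haveI : Nontrivial Q := (nontrivial_iff_ne_bot Q).mpr hQ1
      have hFlt : F < Q := by
        refine lt_of_le_of_ne hFQ fun he => ?_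
        obtain ⟨M, hM, -⟩ := (eq_top_or_exists_le_coatom (⊥ : Subgroup Q)).resolve_left bot_ne_top
        apply hM.1
        have h' : frattini Q = ⊤ := by
          apply Subgroup.map_injective Q.subtype_injective
          rw [← MonoidHom.range_eq_map, range_subtype]
          exact he
        exact top_le_iff.mp (h' ▸ frattini_le_coatom hM)
      have hgF : g ∈ normalizer (F : Set G) := by
        rw [mem_normalizer_iff_map_conj_eq]
        show F.map (MulAut.conj g).toMonoidHom = F
        let φ : ↥Q ≃* ↥Q := ((MulAut.conj g).subgroupMap Q).trans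
          (MulEquiv.subgroupCongr (mem_normalizer_iff_map_conj_eq.mp hg))
        rw [hF, map_map, show (MulAut.conj g).toMonoidHom.comp Q.subtype
          = Q.subtype.comp φ.toMonoidHom from MonoidHom.ext fun _ => rfl, ← map_map,
          characteristic_iff_map_eq.mp inferInstance φ]
      have hFc : ∀ y ∈ F, Commute g y := hsmall F hFlt hgF
      have hFg : ⁅F, zpowers g⁆ = ⊥ := by
        rw [commutator_eq_bot_iff_le_centralizer, zpowers_eq_closure, centralizer_closure]
        exact fun y hy => mem_centralizer_singleton_iff.mpr (hFc y hy).symm.eq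
      have hQF : ⁅Q, F⁆ ≤ F := by
        rw [commutator_comm]
        refine Cfsg.Lib.Coprime.commutator_le_of_le_normalizer ?_
        intro x hx
        rw [mem_normalizer_iff_map_conj_eq]
        show F.map (MulAut.conj x).toMonoidHom = F
        rw [hF, map_map, show (MulAut.conj x).toMonoidHom.comp Q.subtype
          = Q.subtype.comp (MulAut.conj (⟨x, hx⟩ : Q)).toMonoidHom from MonoidHom.ext fun _ => rfl,
          ← map_map, characteristic_iff_map_eq.mp inferInstance]
      have hFQ0 : ⁅F, Q⁆ = ⊥ := by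
        have a1 : ⁅⁅Q, F⁆, zpowers g⁆ = ⊥ :=
          le_bot_iff.mp ((commutator_mono hQF le_rfl).trans hFg.le)
        have a2 : ⁅⁅F, zpowers g⁆, Q⁆ = ⊥ := by rw [hFg, commutator_bot_left]
        have a3 := commutator_commutator_eq_bot_of_rotate (H₁ := zpowers g) (H₂ := Q) (H₃ := F) a1 a2
        rw [commutator_comm (zpowers g) Q, ← hK, hKQe] at a3
        rwa [commutator_comm] at a3
      have hcen : ∀ y ∈ F, ∀ x ∈ Q, Commute y x := fun y hy x hx =>
        commutatorElement_eq_one_iff_mul_comm.mp
          (mem_bot.mp (hFQ0 ▸ commutator_mem_commutator hy hx))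
      intro x hx
      have hgx : g * x * g⁻¹ ∈ Q := (mem_normalizer_iff.mp hg x).mp hx
      have hpF : ∀ y ∈ Q, y ^ p ∈ F := fun y hy =>
        ⟨_, Cfsg.Lib.PGroups.pow_mem_frattini hQ ⟨y, hy⟩, rfl⟩
      have hcF : ∀ a ∈ Q, ∀ b ∈ Q, ⁅a, b⁆ ∈ F := fun a ha b hb =>
        ⟨_, Cfsg.Lib.PGroups.commutator_le_frattini hQ
          (commutator_mem_commutator (mem_top (⟨a, ha⟩ : Q)) (mem_top (⟨b, hb⟩ : Q))), rfl⟩
      set a := x⁻¹ with ha
      set b := g * x * g⁻¹ with hb
      have haQ : a ∈ Q := inv_mem hx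
      have hfix : ∀ e, p ∣ e → a ^ e * b ^ e = 1 := by
        rintro e ⟨m, rfl⟩
        have hm : x ^ (p * m) ∈ F := by rw [pow_mul]; exact pow_mem (hpF x hx) m
        rw [ha, hb, inv_pow, conj_pow, (hFc _ hm).eq, mul_inv_cancel_right, inv_mul_cancel]
      set c := ⁅b, a⁆ with hc
      have hcz : c ∈ F := hcF b hgx a haQ
      have hcp : c ^ p = 1 := by
        have hm := Cfsg.Lib.PGroups.commutator_pow_left_of_commute (hcen c hcz b hgx) p
        rw [← hm, commutatorElement_eq_one_iff_mul_comm]
        exact (hcen _ (hpF b hgx) a haQ).eq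
      have hexp : ∀ e, p ∣ e → (p = 2 → 2 ∣ e.choose 2) → (p ≠ 2 → e = p) → (a * b) ^ e = 1 := by
        intro e he h2 hodd
        rw [Cfsg.Lib.PGroups.mul_pow_of_commute_commutator (x := a) (y := b)
          (hcen c hcz a haQ) (hcen c hcz b hgx) e, ← hc, hfix e he, one_mul]
        obtain ⟨m, hm⟩ : p ∣ e.choose 2 := by
          by_cases h : p = 2
          · rw [h]; exact h2 h
          · rw [hodd h]; exact Cfsg.Lib.PGroups.dvd_choose_two Fact.out h
        rw [hm, pow_mul, hcp, one_pow]
      have habQ : a * b ∈ Q := mul_mem haQ hgx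
      have hab : Commute g (a * b) := by
        by_cases h : p = 2
        · refine h4 h _ habQ (hexp 4 (by rw [h]; norm_num) (fun _ => ?_) (fun h' => absurd h h'))
          rw [Nat.choose_two_right]; norm_num
        · exact h1 _ habQ (hexp p dvd_rfl (fun h' => absurd h' h) fun _ => rfl)
      obtain ⟨j, hj⟩ := hQ ⟨a * b, habQ⟩
      refine fixed_of_chain hcop (congrArg Subtype.val hj) hab ?_
      show g * x * g⁻¹ = x * (a * b)
      simp only [ha, hb]; group
    · have hKlt : K < Q := lt_of_le_of_ne hKQ hKQe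
      have hgK : g ∈ normalizer (K : Set G) :=
        Cfsg.Lib.Coprime.le_normalizer_commutator_right (zpowers g) Q (mem_zpowers g)
      have hKc := hsmall K hKlt hgK
      have hKbot : K = ⊥ := by
        rw [hK, ← Cfsg.Lib.Coprime.commutator_commutator_eq hA hcopA.symm.symm (Or.inl inferInstance),
          commutator_eq_bot_iff_le_centralizer, zpowers_eq_closure, centralizer_closure]
        exact fun y hy => mem_centralizer_singleton_iff.mpr (hKc y (by rw [hK, zpowers_eq_closure]; exact hy)).symm.eq
      intro x hx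
      exact (commutatorElement_eq_one_iff_mul_comm.mp
        (mem_bot.mp (hKbot ▸ commutator_mem_commutator hx (mem_zpowers g)))).symm

/-- a coprime element centralizing the elements of order `p` (and 4) centralizes the `p`-group -/
theorem commute_of_small {Q : Subgroup G} (hQ : IsPGroup p Q) {g : G}
    (hg : g ∈ normalizer (Q : Set G)) (hcop : (orderOf g).Coprime p)
    (h1 : ∀ x ∈ Q, x ^ p = 1 → Commute g x) (h4 : p = 2 → ∀ x ∈ Q, x ^ 4 = 1 → Commute g x) :
    ∀ x ∈ Q, Commute g x :=
  commute_of_small_aux (Nat.card Q) Q le_rfl hQ g hg hcop h1 h4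

end Cfsg.Lib.HSub
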