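import Cfsg.Agent.Components.HSub.Main
import Cfsg.Agent.SolvStruct.Supersolvable
import Cfsg.Agent.Coprime.Hall
import Cfsg.Agent.Coprime.Action

/-!
A normal `p`-subgroup all of whose subgroups of one order are normal, below a supersolvable quotient.
-/

set_option linter.style.haveILetI false
set_option linter.unusedSectionVars false

namespace Cfsg.Lib.HSub

open Subgroup
open scoped commutatorElement

universe u

section

variable {G : Type u} [Group G] [Finite G] {p : ℕ} [Fact p.Prime]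

theorem exists_eigen {V : Type*} [AddCommGroup V] [Finite V] [Nontrivial V] {p : ℕ} [Fact p.Prime]
    [Module (ZMod p) V] (f : Module.End (ZMod p) V) (hf : ∀ v, (⇑f)^[p - 1] v = v) : ∃ v : V, v ≠ 0 ∧ ∃ a : ℕ, f v = a • v := by
  have hf' : f ^ (p - 1) = 1 := LinearMap.ext fun v => by
    rw [Module.End.pow_apply]; exact hf v
  haveI : Module.Finite (ZMod p) V := Module.Finite.of_finite
  set q : Polynomial (ZMod p) := Polynomial.X ^ p - Polynomial.X with hq
  have hp1 : 1 < p := (Fact.out : p.Prime).one_lt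
  have hq0 : q ≠ 0 := FiniteField.X_pow_card_sub_X_ne_zero (ZMod p) hp1
  have hsplit : q.Splits := by
    refine Polynomial.splits_iff_card_roots.mpr ?_
    have h1 := FiniteField.roots_X_pow_card_sub_X (ZMod p)
    rw [ZMod.card] at h1
    rw [hq, h1, FiniteField.X_pow_card_sub_X_natDegree_eq (ZMod p) hp1, ← Finset.card_def,
      Finset.card_univ, ZMod.card]
  have hdvd : minpoly (ZMod p) f ∣ q := by
    refine minpoly.dvd (ZMod p) f ?_
    have e := pow_succ f (p - 1)
    rw [Nat.sub_add_cancel hp1.le, hf', one_mul] at e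
    rw [hq, map_sub, map_pow, Polynomial.aeval_X, e, sub_self]
  have hint : IsIntegral (ZMod p) f := Algebra.IsIntegral.isIntegral f
  obtain ⟨μ, hμ⟩ := (hsplit.of_dvd hq0 hdvd).exists_eval_eq_zero (minpoly.degree_pos hint).ne'
  obtain ⟨v, hv⟩ := (Module.End.hasEigenvalue_of_isRoot hμ).exists_hasEigenvector
  refine ⟨v, hv.2, μ.val, ?_⟩
  have h := hv.apply_eq_smul
  rw [← ZMod.natCast_zmod_val μ, Nat.cast_smul_eq_nsmul] at h
  exact h
theorem exists_eigen_addMonoidHom {V : Type*} [AddCommGroup V] [Finite V] [Nontrivial V] {p : ℕ} [Fact p.Prime]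
    (hz : ∀ v : V, p • v = 0) (f : V →+ V) (hf : ∀ v, (⇑f)^[p - 1] v = v) :
    ∃ v : V, v ≠ 0 ∧ ∃ a : ℕ, f v = a • v := by
  let i : Module (ZMod p) V := AddCommGroup.zmodModule hz
  exact @exists_eigen V _ _ _ p _ i (f.toZModLinearMap p) hf

theorem exists_conj_eq_pow {Z : Subgroup G} [Z.Normal] [IsMulCommutative Z]
    (hpow : ∀ x ∈ Z, x ^ p = 1) (hne : Z ≠ ⊥) (g : G)
    (hg : ∀ x ∈ Z, Commute (g ^ (p - 1)) x) :
    ∃ x ∈ Z, x ≠ 1 ∧ ∃ a : ℕ, g * x * g⁻¹ = x ^ a := by
  letI : CommGroup Z := { mul_comm := mul_comm' }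
  haveI := (nontrivial_iff_ne_bot Z).mpr hne
  let f : Additive Z →+ Additive Z :=
    MonoidHom.toAdditive (MulAut.conjNormal (H := Z) g).toMonoidHom
  have happ : ∀ (n : ℕ) (y : Additive Z),
      ((((⇑f)^[n] y).toMul : Z) : G) = g ^ n * (y.toMul : G) * (g ^ n)⁻¹ := by
    intro n
    induction n with
    | zero => intro y; simp
    | succ n ih =>
      intro y
      rw [Function.iterate_succ_apply']
      show ((MulAut.conjNormal (H := Z) g ((⇑f)^[n] y).toMul : Z) : G) = _
      rw [MulAut.conjNormal_apply, ih y, pow_succ']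
      group
  obtain ⟨y, hy, a, ha⟩ := exists_eigen_addMonoidHom (p := p) (fun y => by
      apply Additive.toMul.injective
      rw [toMul_nsmul, toMul_zero]
      exact Subtype.ext (by simpa using hpow (y.toMul : Z) (y.toMul : Z).2)) f
    (fun y => Additive.toMul.injective (Subtype.ext (by
      rw [happ, (hg _ (y.toMul : Z).2).eq, mul_inv_cancel_right])))
  refine ⟨(y.toMul : G), (y.toMul : Z).2,
    fun h => hy (Additive.toMul.injective (Subtype.ext h)), a, ?_⟩
  have h2 := congrArg (fun v : Additive Z => ((v.toMul : Z) : G)) ha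
  simp only [toMul_nsmul, SubgroupClass.coe_pow] at h2
  rw [← h2]
  exact (MulAut.conjNormal_apply (H := Z) g y.toMul).symm

/-- a minimal normal subgroup with abelian action of exponent dividing `p - 1` has order `p` -/
theorem card_minimal {Z : Subgroup G} [Z.Normal] (hne : Z ≠ ⊥)
    (hmin : ∀ M : Subgroup G, M.Normal → M ≤ Z → M = ⊥ ∨ M = Z) (hZp : IsPGroup p Z)
    (hab : ∀ g h : G, ∀ x ∈ Z, Commute ⁅g, h⁆ x)
    (hexp : ∀ g : G, ∀ x ∈ Z, Commute (g ^ (p - 1)) x) : Nat.card Z = p := by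
  haveI := hZp.isNilpotent
  obtain ⟨hcm, q, hq, hqZ, hpowq⟩ :=
    Cfsg.Lib.Coprime.minimal_normal_solvable inferInstance hne hmin
  obtain rfl : q = p := by
    haveI := Fact.mk hq
    haveI := (nontrivial_iff_ne_bot Z).mpr hne
    obtain ⟨a, ha⟩ := IsPGroup.iff_card.mp hZp
    obtain ⟨b, hb⟩ := IsPGroup.iff_card.mp hqZ
    have h1 : 1 < Nat.card Z := Finite.one_lt_card
    have hqd : q ∣ p ^ a := ha ▸ hb.symm ▸ dvd_pow_self q (fun h => by rw [hb, h] at h1; simp at h1)
    exact (Nat.prime_dvd_prime_iff_eq hq Fact.out).mp (hq.dvd_of_dvd_pow hqd)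
  haveI := hcm
  have heig : ∀ g : G, ∃ a : ℕ, ∀ x ∈ Z, g * x * g⁻¹ = x ^ a := by
    intro g
    obtain ⟨x0, hx0, hx0', a, ha⟩ := exists_conj_eq_pow hpowq hne g (hexp g)
    refine ⟨a, ?_⟩
    let M : Subgroup G :=
      { carrier := {x | x ∈ Z ∧ g * x * g⁻¹ = x ^ a}
        one_mem' := ⟨one_mem Z, by simp⟩
        mul_mem' := fun {x y} hx hy => ⟨mul_mem hx.1 hy.1, by
          have hxy : Commute x y := Subtype.ext_iff.mp (mul_comm' (⟨x, hx.1⟩ : Z) ⟨y, hy.1⟩)
          rw [hxy.mul_pow, ← hx.2, ← hy.2]; group⟩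
        inv_mem' := fun {x} hx => ⟨inv_mem hx.1, by rw [inv_pow, ← hx.2]; group⟩ }
    have hMn : M.Normal := ⟨fun x hx t => by
      have hxZ : t * x * t⁻¹ ∈ Z := Subgroup.Normal.conj_mem inferInstance x hx.1 t
      refine ⟨hxZ, ?_⟩
      have hc := (hab g t _ (Subgroup.Normal.conj_mem inferInstance _
        (Subgroup.Normal.conj_mem inferInstance x hx.1 g) t)).eq
      have e : g * (t * x * t⁻¹) * g⁻¹ = ⁅g, t⁆ * (t * (g * x * g⁻¹) * t⁻¹) * ⁅g, t⁆⁻¹ := by
        simp only [commutatorElement_def]; group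
      rw [e, hc, mul_inv_cancel_right, hx.2, conj_pow]⟩
    rcases hmin M hMn (fun x hx => hx.1) with h | h
    · exfalso
      have hm : x0 ∈ M := ⟨hx0, ha⟩
      rw [h, mem_bot] at hm
      exact hx0' hm
    · intro x hx
      exact (show x ∈ M from h.symm ▸ hx).2
  obtain ⟨x, hx, hx1⟩ : ∃ x ∈ Z, x ≠ 1 := by
    by_contra h
    push Not at h
    exact hne ((Subgroup.eq_bot_iff_forall Z).mpr h)
  rcases hmin (zpowers x) ⟨fun y hy t => by
      obtain ⟨i, rfl⟩ := hy
      obtain ⟨a, ha⟩ := heig t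
      rw [← conj_zpow, ha x hx]
      exact zpow_mem (pow_mem (mem_zpowers x) a) i⟩ (zpowers_le.mpr hx) with h | h
  · exact absurd (zpowers_eq_bot.mp h) hx1
  · rw [← h, Nat.card_zpowers]
    exact orderOf_eq_prime (hpowq x hx) hx1

end

theorem supersolvable_of_act_aux (p : ℕ) [Fact p.Prime] : ∀ n : ℕ, ∀ (G : Type u) [Group G] [Finite G],
    Nat.card G = n → ∀ (Q C : Subgroup G) [Q.Normal] [C.Normal], IsPGroup p Q →
    (∀ c ∈ C, (orderOf c).Coprime p → ∀ x ∈ Q, Commute c x) →
    (∀ g h : G, ⁅g, h⁆ ∈ C) → (∀ g : G, g ^ (p - 1) ∈ C) →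
    Cfsg.IsSupersolvable (G ⧸ Q) → Cfsg.IsSupersolvable G := by
  intro n
  induction n using Nat.strong_induction_on with
  | _ n ih =>
  intro G _ _ hn Q C _ _ hQ hcen hcomm hexp hss
  by_cases hQ1 : Q = ⊥
  · haveI : IsCyclic Q := by subst hQ1; infer_instance
    exact Cfsg.Lib.SolvStruct.isSupersolvable_of_quotient Q hss
  obtain ⟨Z, hZQ, hZn, hZ1, hZmin⟩ := Cfsg.Lib.Coprime.exists_minimal_normal ‹Q.Normal› hQ1
  haveI := hZn
  have hZp : IsPGroup p Z := hQ.to_le hZQ
  have hCZ : ∀ c ∈ C, ∀ x ∈ Z, Commute c x := by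
    have hfix : ∀ c ∈ C, ∀ x ∈ Z, (orderOf c).Coprime p → Commute c x :=
      fun c hc x hx hcop => hcen c hc hcop x (hZQ hx)
    let act : C →* MulAut Z := (MulAut.conjNormal (H := Z)).comp C.subtype
    have hrp : IsPGroup p act.range := by
      intro a
      obtain ⟨⟨c, hc⟩, hca⟩ := a.2
      set m := (orderOf c).factorization p
      refine ⟨m, Subtype.ext ?_⟩
      rw [SubgroupClass.coe_pow, ← hca, ← map_pow]
      apply MulEquiv.ext
      intro x
      apply Subtype.ext
      show ((c ^ p ^ m : G)) * (x : G) * (c ^ p ^ m)⁻¹ = _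
      have hcop : (orderOf (c ^ p ^ m)).Coprime p := by
        rw [orderOf_pow, Nat.gcd_eq_right (Nat.ordProj_dvd (orderOf c) p)]
        exact (Nat.coprime_ordCompl (Fact.out : p.Prime) (orderOf_pos c).ne').symm
      rw [(hfix _ (pow_mem hc _) x x.2 hcop).eq, mul_inv_cancel_right]
      rfl
    let M : Subgroup G :=
      { carrier := {x | x ∈ Z ∧ ∀ c ∈ C, Commute c x}
        one_mem' := ⟨one_mem Z, fun c _ => Commute.one_right c⟩
        mul_mem' := fun {x y} hx hy => ⟨mul_mem hx.1 hy.1, fun c hc => (hx.2 c hc).mul_right (hy.2 c hc)⟩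
        inv_mem' := fun {x} hx => ⟨inv_mem hx.1, fun c hc => (hx.2 c hc).inv_right⟩ }
    have hMn : M.Normal := ⟨fun x hx t => ⟨hZn.conj_mem x hx.1 t, fun c hc => by
      have h := hx.2 (t⁻¹ * c * t) (by simpa using Subgroup.Normal.conj_mem inferInstance c hc t⁻¹)
      show c * (t * x * t⁻¹) = t * x * t⁻¹ * c
      calc c * (t * x * t⁻¹) = t * (t⁻¹ * c * t * x) * t⁻¹ := by group
        _ = t * (x * (t⁻¹ * c * t)) * t⁻¹ := by rw [h.eq]
        _ = _ := by group⟩⟩
    have hp : p ∣ Nat.card Z := by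
      haveI := (nontrivial_iff_ne_bot Z).mpr hZ1
      obtain ⟨a, ha⟩ := IsPGroup.iff_card.mp hZp
      have h1 : 1 < Nat.card Z := Finite.one_lt_card
      rw [ha] at h1 ⊢
      exact dvd_pow_self p (fun h => by rw [h] at h1; simp at h1)
    obtain ⟨y, hy, hy1⟩ := hrp.exists_fixed_point_of_prime_dvd_card_of_fixed_point Z hp
      (a := (1 : Z)) (fun a => map_one (a : MulAut Z))
    rcases hZmin M hMn (fun x hx => hx.1) with h | h
    · exfalso
      have hm : (y : G) ∈ M := ⟨y.2, fun c hc => by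
        have h' := congrArg Subtype.val (hy ⟨act ⟨c, hc⟩, ⟨c, hc⟩, rfl⟩)
        exact mul_inv_eq_iff_eq_mul.mp h'⟩
      rw [h, mem_bot] at hm
      exact hy1 (Subtype.ext hm).symm
    · intro c hc x hx
      exact (show x ∈ M from h.symm ▸ hx).2 c hc
  have hcard : Nat.card Z = p := card_minimal hZ1 hZmin hZp
    (fun g h x hx => hCZ _ (hcomm g h) x hx) (fun g x hx => hCZ _ (hexp g) x hx)
  haveI : IsCyclic Z := isCyclic_of_prime_card hcard
  apply Cfsg.Lib.SolvStruct.isSupersolvable_of_quotient Z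
  set π := QuotientGroup.mk' Z
  have hπ : Function.Surjective π := QuotientGroup.mk'_surjective Z
  haveI : (Q.map π).Normal := Subgroup.Normal.map inferInstance π hπ
  haveI : (C.map π).Normal := Subgroup.Normal.map inferInstance π hπ
  have hlt : Nat.card (G ⧸ Z) < n := by
    rw [← hn]; exact Cfsg.Lib.Coprime.card_quotient_lt hZ1
  refine ih _ hlt (G ⧸ Z) rfl (Q.map π) (C.map π) (hQ.map π) ?_ ?_ ?_
    (Cfsg.Lib.SolvStruct.isSupersolvable_of_surjective hss
      (QuotientGroup.quotientQuotientEquivQuotient Z Q hZQ).symm.toMonoidHom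
      (QuotientGroup.quotientQuotientEquivQuotient Z Q hZQ).symm.surjective)
  · rintro _ ⟨c, hc, rfl⟩ hcop _ ⟨x, hx, rfl⟩
    set m := (orderOf c).factorization p
    have hco : (orderOf (c ^ p ^ m)).Coprime p := by
      rw [orderOf_pow, Nat.gcd_eq_right (Nat.ordProj_dvd (orderOf c) p)]
      exact (Nat.coprime_ordCompl (Fact.out : p.Prime) (orderOf_pos c).ne').symm
    have h1 := (hcen _ (pow_mem hc _) hco x hx).map π
    rw [map_pow] at h1
    obtain ⟨r, hr⟩ := exists_pow_eq_self_of_coprime (x := π c) (n := p ^ m)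
      (hcop.pow_right m).symm
    rw [← hr]
    exact h1.pow_left r
  · intro g h
    obtain ⟨g, rfl⟩ := hπ g
    obtain ⟨h, rfl⟩ := hπ h
    rw [← map_commutatorElement]
    exact mem_map_of_mem π (hcomm g h)
  · intro g
    obtain ⟨g, rfl⟩ := hπ g
    rw [← map_pow]
    exact mem_map_of_mem π (hexp g)

section

variable {G : Type u} [Group G] [Finite G] {p : ℕ} [Fact p.Prime]

theorem supersolvable_of_act {Q C : Subgroup G} [Q.Normal] [C.Normal] (hQ : IsPGroup p Q)
    (hcen : ∀ c ∈ C, (orderOf c).Coprime p → ∀ x ∈ Q, Commute c x)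
    (hcomm : ∀ g h : G, ⁅g, h⁆ ∈ C) (hexp : ∀ g : G, g ^ (p - 1) ∈ C)
    (hss : Cfsg.IsSupersolvable (G ⧸ Q)) : Cfsg.IsSupersolvable G :=
  supersolvable_of_act_aux p _ G rfl Q C hQ hcen hcomm hexp hss

/-- `2`-groups: odd elements centralize `Q` -/
theorem commute_two (hp : p = 2) {Q : Subgroup G} (hQ : IsPGroup p Q) {k : ℕ} (hk : 1 ≤ k)
    (hd : p ^ k < Nat.card Q)
    (hN : ∀ F : Subgroup G, F ≤ Q → Nat.card F = p ^ k → F.Normal)
    (h4 : k = 1 → ∀ F : Subgroup G, F ≤ Q → Nat.card F = 4 → F.Normal)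
    {g : G} (hg : g ∈ normalizer (Q : Set G)) (hcop : (orderOf g).Coprime p) :
    ∀ x ∈ Q, Commute g x := by
  set H := Q ⊔ zpowers g
  have hz : zpowers g ≤ normalizer (Q : Set G) := zpowers_le.mpr hg
  obtain ⟨b, hb⟩ := IsPGroup.iff_card.mp hQ
  have hdisj : Q ⊓ zpowers g = ⊥ := Cfsg.Lib.Coprime.inf_eq_bot_of_coprime (by
    rw [hb, Nat.card_zpowers]; exact (hcop.symm).pow_left b)
  have hcard : Nat.card H = Nat.card Q * orderOf g := by
    rw [Cfsg.Lib.Coprime.card_sup_of_inf_eq_bot hz hdisj, Nat.card_zpowers]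
  have hQH : Q ≤ H := le_sup_left
  have hnd : ¬ p ∣ (Q.subgroupOf H).index := by
    intro h
    have h1 := (Q.subgroupOf H).card_mul_index
    rw [Nat.card_congr (subgroupOfEquivOfLe hQH).toEquiv, hcard] at h1
    rw [Nat.eq_of_mul_eq_mul_left Nat.card_pos h1] at h
    exact (Fact.out : p.Prime).ne_one (Nat.eq_one_of_dvd_coprimes hcop.symm dvd_rfl h)
  let P : Sylow p H := (hQ.of_equiv (subgroupOfEquivOfLe hQH).symm).toSylow hnd
  have hP : (P : Subgroup H) = Q.subgroupOf H := rfl
  have hnormal : ∀ m : ℕ, (∀ F : Subgroup G, F ≤ Q → Nat.card F = m → F.Normal) →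
      SC (P : Subgroup H) m := by
    intro m hm F hF hFc t x hx _
    have hFG : (F.map H.subtype).Normal := hm _
      (by rw [hP] at hF; exact (map_mono hF).trans (by rw [subgroupOf_map_subtype]; exact inf_le_left))
      (by rw [Subgroup.card_map_of_injective H.subtype_injective, hFc])
    exact (mem_map_iff_mem H.subtype_injective).mp (hFG.conj_mem _ (mem_map_of_mem H.subtype hx) t)
  have hH : Cfsg.HasNormalPComplement p H := main p _ H rfl
    (fun q hq _ => hp ▸ hq.two_le) P k hk
    (by change p ^ k < Nat.card (P : Subgroup H)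
        rwa [hP, Nat.card_congr (subgroupOfEquivOfLe hQH).toEquiv])
    (hnormal _ hN) fun _ h1 => (hnormal 4 (h4 h1)).wc
  intro x hx
  have := Cfsg.Lib.Transfer.centralize_of_hasNormalPComplement hH (Q.subgroupOf H)
    (hQ.of_equiv (subgroupOfEquivOfLe hQH).symm) ⟨g, mem_sup_right (mem_zpowers g)⟩
    (by
      rw [Subgroup.mem_normalizer_iff]
      exact fun y => Subgroup.mem_normalizer_iff.mp hg y)
    (by rwa [Subgroup.orderOf_mk])
  exact (congrArg Subtype.val (mem_centralizer_iff.mp this ⟨x, hQH hx⟩ hx)).symm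

theorem commute_pow_sub_one {x g : G} (hx : orderOf x = p) (hg : g * x * g⁻¹ ∈ zpowers x) :
    Commute (g ^ (p - 1)) x := by
  obtain ⟨i, hi⟩ := hg
  have hi' : g * x * g⁻¹ = x ^ i := hi.symm
  have key : ∀ n : ℕ, g ^ n * x * (g ^ n)⁻¹ = x ^ (i ^ n) := by
    intro n
    induction n with
    | zero => simp
    | succ n ih =>
      calc g ^ (n + 1) * x * (g ^ (n + 1))⁻¹ = g * (g ^ n * x * (g ^ n)⁻¹) * g⁻¹ := by
            rw [pow_succ']; group
        _ = (g * x * g⁻¹) ^ (i ^ n) := by rw [ih, conj_zpow]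
        _ = _ := by rw [hi', ← zpow_mul, pow_succ']
  have hni : ¬ (p : ℤ) ∣ i := by
    intro h
    rw [← hx, orderOf_dvd_iff_zpow_eq_one, ← hi'] at h
    rw [show x = 1 from by simpa using h, orderOf_one] at hx
    exact (Fact.out : p.Prime).ne_one hx.symm
  have hmod : i ^ (p - 1) ≡ 1 [ZMOD (orderOf x : ℤ)] := by
    rw [hx]
    exact Int.ModEq.pow_card_sub_one_eq_one Fact.out
      (Int.isCoprime_iff_nat_coprime.mpr (by
        refine ((Fact.out : p.Prime).coprime_iff_not_dvd.mpr ?_).symm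
        intro h
        exact hni (Int.natCast_dvd.mpr h)))
  have h1 := key (p - 1)
  rw [zpow_eq_zpow_iff_modEq.mpr hmod, zpow_one] at h1
  exact mul_inv_eq_iff_eq_mul.mp h1

/-- all subgroups of order `p` are normal, `p` odd -/
theorem supersolvable_of_normal_prime (hp : p ≠ 2) {Q : Subgroup G} [Q.Normal] (hQ : IsPGroup p Q)
    (hN : ∀ F : Subgroup G, F ≤ Q → Nat.card F = p → F.Normal)
    (hss : Cfsg.IsSupersolvable (G ⧸ Q)) : Cfsg.IsSupersolvable G := by
  set X : Set G := {x | x ∈ Q ∧ x ^ p = 1}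
  haveI hXn : (centralizer X).Normal := ⟨fun c hc t => by
    rw [mem_centralizer_iff] at hc ⊢
    intro x hx
    have h := hc (t⁻¹ * x * t) ⟨by simpa using Subgroup.Normal.conj_mem ‹Q.Normal› x hx.1 t⁻¹, by
      have := conj_pow (i := p) (a := t⁻¹) (b := x)
      rw [inv_inv, hx.2] at this
      simpa using this⟩
    calc x * (t * c * t⁻¹) = t * (t⁻¹ * x * t * c) * t⁻¹ := by group
      _ = t * (c * (t⁻¹ * x * t)) * t⁻¹ := by rw [h]
      _ = _ := by group⟩
  have hord : ∀ x ∈ X, x ≠ 1 → orderOf x = p ∧ (zpowers x).Normal := fun x hx h1 =>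
    ⟨orderOf_eq_prime hx.2 h1, hN _ (zpowers_le.mpr hx.1)
      (by rw [Nat.card_zpowers, orderOf_eq_prime hx.2 h1])⟩
  refine supersolvable_of_act (C := centralizer X) hQ ?_ ?_ ?_ hss
  · intro c hc hcop
    refine commute_of_small hQ ?_ hcop (fun x hx hxp => (mem_centralizer_iff.mp hc x ⟨hx, hxp⟩).symm)
      fun h2 => absurd h2 hp
    rw [normalizer_eq_top]; exact mem_top _
  · intro g h
    rw [mem_centralizer_iff]
    intro x hx
    by_cases h1 : x = 1
    · rw [h1, one_mul, mul_one]
    obtain ⟨-, hn⟩ := hord x hx h1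
    haveI := hn
    exact mem_centralizer_iff.mp (Cfsg.Lib.SolvStruct.commutator_le_centralizer_of_cyclic (zpowers x)
      (commutator_mem_commutator (mem_top g) (mem_top h))) x (mem_zpowers x)
  · intro g
    rw [mem_centralizer_iff]
    intro x hx
    by_cases h1 : x = 1
    · rw [h1, one_mul, mul_one]
    obtain ⟨ho, hn⟩ := hord x hx h1
    exact (commute_pow_sub_one ho (hn.conj_mem x (mem_zpowers x) g)).symm.eq

/-- all maximal subgroups of `Q` are normal -/
theorem supersolvable_of_normal_coatom {Q : Subgroup G} [Q.Normal] (hQ : IsPGroup p Q)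
    (hN : ∀ M : Subgroup Q, IsCoatom M → (M.map Q.subtype).Normal)
    (hss : Cfsg.IsSupersolvable (G ⧸ Q)) : Cfsg.IsSupersolvable G := by
  -- the kernel of the action on all `Q/M`
  have hstep : ∀ M : Subgroup Q, IsCoatom M → ∀ t : G, ∀ x ∈ Q, ∀ c : G,
      (∀ y ∈ Q, c * y * c⁻¹ * y⁻¹ ∈ M.map Q.subtype) →
      (t * c * t⁻¹) * x * (t * c * t⁻¹)⁻¹ * x⁻¹ ∈ M.map Q.subtype := by
    intro M hM t x hx c hc
    have h := (hN M hM).conj_mem _
      (hc (t⁻¹ * x * t) (by simpa using Subgroup.Normal.conj_mem ‹Q.Normal› x hx t⁻¹)) t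
    convert h using 1
    group
  let C : Subgroup G :=
    { carrier := {c | ∀ M : Subgroup Q, IsCoatom M → ∀ y ∈ Q, c * y * c⁻¹ * y⁻¹ ∈ M.map Q.subtype}
      one_mem' := fun M _ y _ => by simp [one_mem]
      mul_mem' := fun {a b} ha hb M hM y hy => by
        have h1 := ha M hM (b * y * b⁻¹) (Subgroup.Normal.conj_mem ‹Q.Normal› y hy b)
        convert mul_mem h1 (hb M hM y hy) using 1
        group
      inv_mem' := fun {a} ha M hM y hy => by
        have h1 := inv_mem (ha M hM (a⁻¹ * y * a)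
          (by simpa using Subgroup.Normal.conj_mem ‹Q.Normal› y hy a⁻¹))
        convert h1 using 1
        group }
  haveI : C.Normal := ⟨fun c hc t M hM y hy => hstep M hM t y hy c (hc M hM)⟩
  -- the quotient `Q/M` has order `p`
  have hquot : ∀ M : Subgroup Q, IsCoatom M → ∀ y ∈ Q, y ∉ M.map Q.subtype →
      let T := M.map Q.subtype
      ∀ [T.Normal], orderOf (QuotientGroup.mk' T y) = p ∧
        Q.map (QuotientGroup.mk' T) = zpowers (QuotientGroup.mk' T y) ∧
        IsCyclic (Q.map (QuotientGroup.mk' T)) := by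
    intro M hM y hy hyM T _
    obtain ⟨-, hMi⟩ := Cfsg.Lib.PGroups.coatom_normal_index hQ hM
    set π := QuotientGroup.mk' T
    have hcard : Nat.card (Q.map π) = p := by
      have h1 := Subgroup.relIndex_ker Q π
      rw [QuotientGroup.ker_mk'] at h1
      rw [← h1]
      show (T.subgroupOf Q).index = p
      rw [show T.subgroupOf Q = M from comap_map_eq_self_of_injective Q.subtype_injective M, hMi]
    have hy1 : π y ≠ 1 := fun h => hyM ((QuotientGroup.eq_one_iff y).mp h)
    have hord : orderOf (π y) = p := by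
      rcases (Nat.dvd_prime (Fact.out : p.Prime)).mp
        (hcard ▸ Subgroup.orderOf_dvd_natCard _ (mem_map_of_mem π hy)) with h | h
      · exact absurd (orderOf_eq_one_iff.mp h) hy1
      · exact h
    refine ⟨hord, ?_, isCyclic_of_prime_card hcard⟩
    refine (Subgroup.eq_of_le_of_card_ge (zpowers_le.mpr (mem_map_of_mem π hy)) ?_).symm
    rw [hcard, Nat.card_zpowers, hord]
  refine supersolvable_of_act (C := C) hQ ?_ ?_ ?_ hss
  · intro c hc hcop
    have hcn : zpowers c ≤ normalizer (Q : Set G) := by rw [normalizer_eq_top]; exact le_top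
    obtain ⟨b, hb⟩ := IsPGroup.iff_card.mp hQ
    have hK : ⁅Q, zpowers c⁆ ≤ (frattini Q).map Q.subtype := by
      rw [commutator_le]
      intro y hy a ha
      have ha' : a ∈ C := (zpowers_le.mpr hc) ha
      have hmem : ⁅y, a⁆ ∈ Q := Cfsg.Lib.Coprime.commutator_le_of_le_normalizer hcn
        (commutator_mem_commutator hy ha)
      refine ⟨⟨_, hmem⟩, ?_, rfl⟩
      show _ ∈ frattini _
      simp only [frattini, Order.radical, mem_iInf]
      intro M hM
      refine (mem_map_iff_mem Q.subtype_injective).mp ?_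
      have h := inv_mem (ha' M hM y hy)
      show ⁅y, a⁆ ∈ M.map Q.subtype
      convert h using 1
      simp only [commutatorElement_def]; group
    have hsup := Cfsg.Lib.Coprime.commutator_sup_centralizer hcn
      (by rw [Nat.card_zpowers, hb]; exact hcop.pow_right b) (Or.inl inferInstance)
    set A := (Q ⊓ centralizer (zpowers c : Set G)).subgroupOf Q
    have htop : A ⊔ frattini Q = ⊤ := by
      apply Subgroup.map_injective Q.subtype_injective
      rw [Subgroup.map_sup, subgroupOf_map_subtype, ← MonoidHom.range_eq_map, range_subtype]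
      refine le_antisymm (sup_le inf_le_right (map_subtype_le _)) ?_
      conv_lhs => rw [← hsup]
      exact sup_le (le_trans hK le_sup_right) (le_trans (le_inf le_rfl inf_le_left) le_sup_left)
    intro x hx
    have hA := frattini_nongenerating htop
    have hxA : (⟨x, hx⟩ : Q) ∈ A := hA.symm ▸ mem_top _
    exact (mem_centralizer_iff.mp (mem_subgroupOf.mp hxA).2 c (mem_zpowers c))
  · intro g h M hM y hy
    haveI := hN M hM
    by_cases hyM : y ∈ M.map Q.subtype
    · exact mul_mem ((hN M hM).conj_mem y hyM _) (inv_mem hyM)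
    obtain ⟨-, hgen, hc⟩ := hquot M hM y hy hyM
    set π := QuotientGroup.mk' (M.map Q.subtype)
    haveI : (Q.map π).Normal := Subgroup.Normal.map inferInstance π (QuotientGroup.mk'_surjective _)
    have h1 := mem_centralizer_iff.mp (Cfsg.Lib.SolvStruct.commutator_le_centralizer_of_cyclic
      (Q.map π) (commutator_mem_commutator (mem_top (π g)) (mem_top (π h)))) (π y)
      (mem_map_of_mem π hy)
    refine (QuotientGroup.eq_one_iff _).mp ?_
    show π _ = 1
    rw [map_mul, map_mul, map_mul, map_inv, map_inv, map_commutatorElement, ← h1,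
      mul_inv_cancel_right, mul_inv_cancel]
  · intro g M hM y hy
    haveI := hN M hM
    by_cases hyM : y ∈ M.map Q.subtype
    · exact mul_mem ((hN M hM).conj_mem y hyM _) (inv_mem hyM)
    obtain ⟨ho, hgen, -⟩ := hquot M hM y hy hyM
    set π := QuotientGroup.mk' (M.map Q.subtype)
    have hg : π g * π y * (π g)⁻¹ ∈ zpowers (π y) := by
      rw [← hgen, ← map_inv, ← map_mul, ← map_mul]
      exact mem_map_of_mem π (Subgroup.Normal.conj_mem ‹Q.Normal› y hy g)
    have h1 := commute_pow_sub_one ho hg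
    refine (QuotientGroup.eq_one_iff _).mp ?_
    show π _ = 1
    rw [map_mul, map_mul, map_mul, map_inv, map_inv, map_pow, h1.eq, mul_inv_cancel_right,
      mul_inv_cancel]

end

theorem supersolvable_of_normal_aux (p : ℕ) [Fact p.Prime] : ∀ n : ℕ, ∀ (G : Type u) [Group G]
    [Finite G] (Q : Subgroup G) [Q.Normal], Nat.card G + Nat.card Q = n → IsPGroup p Q →
    ∀ k : ℕ, 1 ≤ k → p ^ k < Nat.card Q →
    (∀ F : Subgroup G, F ≤ Q → Nat.card F = p ^ k → F.Normal) →
    (p = 2 → k = 1 → ∀ F : Subgroup G, F ≤ Q → Nat.card F = 4 → F.Normal) →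
    Cfsg.IsSupersolvable (G ⧸ Q) → Cfsg.IsSupersolvable G := by
  intro n
  induction n using Nat.strong_induction_on with
  | _ n ih =>
  intro G _ _ Q _ hn hQ k hk hd hN h4 hss
  by_cases hc : IsCyclic Q
  · exact Cfsg.Lib.SolvStruct.isSupersolvable_of_quotient Q hss
  by_cases hp : p = 2
  · refine supersolvable_of_act (C := ⊤) hQ ?_ (fun g h => mem_top _) (fun g => mem_top _) hss
    intro c _ hcop
    exact commute_two hp hQ hk hd hN (h4 hp) (by rw [normalizer_eq_top]; exact mem_top _) hcop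
  by_cases hk1 : k = 1
  · subst hk1
    exact supersolvable_of_normal_prime hp hQ (by simpa using hN) hss
  obtain ⟨b, hb⟩ := IsPGroup.iff_card.mp hQ
  have hp1 := (Fact.out : p.Prime).one_lt
  have hkb : k < b := (Nat.pow_lt_pow_iff_right hp1).mp (hb ▸ hd)
  by_cases hb1 : b = k + 1
  · refine supersolvable_of_normal_coatom hQ (fun M hM => hN _ (map_subtype_le M) ?_) hss
    obtain ⟨-, hMi⟩ := Cfsg.Lib.PGroups.coatom_normal_index hQ hM
    rw [Subgroup.card_map_of_injective Q.subtype_injective]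
    have h1 := M.card_mul_index
    rw [hMi, hb, hb1, pow_succ] at h1
    exact Nat.eq_of_mul_eq_mul_right (Fact.out : p.Prime).pos h1
  have hQ1 : Q ≠ ⊥ := fun h => by
    rw [h, Subgroup.card_bot] at hb
    exact (Nat.one_lt_pow (show b ≠ 0 by omega) hp1).ne hb
  obtain ⟨U, hUQ, hUn, hU1, hminU⟩ := Cfsg.Lib.Coprime.exists_minimal_normal ‹Q.Normal› hQ1
  haveI := hUn
  have hUp : IsPGroup p U := hQ.to_le hUQ
  obtain ⟨u, hu⟩ := IsPGroup.iff_card.mp hUp
  have hu1 : 1 ≤ u := by
    by_contra h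
    rw [show u = 0 by omega, pow_zero] at hu
    exact hU1 (Subgroup.card_eq_one.mp hu)
  have huk : u < k := by
    by_contra hle
    rcases Nat.lt_or_ge k u with hlt | hge
    · obtain ⟨E, -, hEU, hE⟩ := exists_card_between (p := p) (n := k) hUp (bot_le (a := U))
        (by rw [Subgroup.card_bot]; exact Nat.one_le_pow _ _ (Fact.out : p.Prime).pos)
        (hu ▸ Nat.pow_le_pow_right (Fact.out : p.Prime).pos hlt.le)
      rcases hminU E (hN E (hEU.trans hUQ) hE) hEU with h | h
      · rw [h, Subgroup.card_bot] at hE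
        exact absurd hE (Nat.one_lt_pow (by omega) hp1).ne
      · rw [h, hu] at hE
        have := Nat.pow_right_injective (Fact.out : p.Prime).two_le hE
        omega
    · obtain rfl : u = k := by omega
      obtain ⟨S, hUS, hSQ, hS⟩ := exists_card_between (n := u + 1) hQ hUQ
        (hu ▸ Nat.pow_le_pow_right (Fact.out : p.Prime).pos (by omega))
        (hb ▸ Nat.pow_le_pow_right (Fact.out : p.Prime).pos hkb)
      have hSp : IsPGroup p S := hQ.to_le hSQ
      obtain ⟨M, hM, hMU⟩ : ∃ M : Subgroup S, IsCoatom M ∧ M.map S.subtype ≠ U := by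
        by_contra hall
        push Not at hall
        obtain ⟨x, hxS, hxU⟩ : ∃ x ∈ S, x ∉ U := by
          by_contra h
          push Not at h
          rw [le_antisymm hUS h, hS] at hu
          exact absurd (Nat.pow_right_injective (Fact.out : p.Prime).two_le hu) (by omega)
        have htop : zpowers (⟨x, hxS⟩ : S) = ⊤ := by
          by_contra hne
          obtain ⟨M, hM, hle⟩ := (eq_top_or_exists_le_coatom _).resolve_left hne
          exact hxU ((hall M hM).le (mem_map_of_mem S.subtype (hle (mem_zpowers _))))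
        haveI : IsCyclic S := ⟨⟨⟨x, hxS⟩, fun y => htop.ge (mem_top y)⟩⟩
        haveI : IsCyclic U := isCyclic_of_injective (inclusion hUS) (inclusion_injective hUS)
        haveI := hUp.isNilpotent
        obtain ⟨-, q, hq, hqU, hpow⟩ :=
          Cfsg.Lib.Coprime.minimal_normal_solvable inferInstance hU1 hminU
        obtain ⟨y, hy⟩ := IsCyclic.exists_generator (α := U)
        have hord : orderOf y = p ^ u := by
          rw [← hu, ← orderOf_eq_card_of_forall_mem_zpowers hy]
        have hd' : p ^ u ∣ q := by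
          rw [← hord]
          exact orderOf_dvd_of_pow_eq_one (Subtype.ext (by simpa using hpow y y.2))
        rcases (Nat.dvd_prime hq).mp hd' with h | h
        · exact absurd h (Nat.one_lt_pow (by omega) hp1).ne'
        · exact absurd (h ▸ hq) (Nat.Prime.not_prime_pow (by omega))
      obtain ⟨-, hMi⟩ := Cfsg.Lib.PGroups.coatom_normal_index hSp hM
      set T := M.map S.subtype
      have hTS : T ≤ S := map_subtype_le _
      have hT : Nat.card T = p ^ u := by
        rw [Subgroup.card_map_of_injective S.subtype_injective]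
        have h1 := M.card_mul_index
        rw [hMi, hS, pow_succ] at h1
        exact Nat.eq_of_mul_eq_mul_right (Fact.out : p.Prime).pos h1
      haveI := hN T (hTS.trans hSQ) hT
      rcases hminU (U ⊓ T) inferInstance inf_le_left with h | h
      · have h1 := Cfsg.Lib.Coprime.card_sup_of_inf_eq_bot
          (le_top.trans (normalizer_eq_top (H := U)).ge) h
        have h2 := Subgroup.card_le_of_le (sup_le hUS hTS)
        rw [h1, hu, hT, hS, ← pow_add] at h2
        have := (Nat.pow_le_pow_iff_right hp1).mp h2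
        omega
      · exact hMU (Subgroup.eq_of_le_of_card_ge (h ▸ inf_le_right) (by rw [hT, hu])).symm
  set π := QuotientGroup.mk' U
  have hπ : Function.Surjective π := QuotientGroup.mk'_surjective U
  have hcomapcard : ∀ E : Subgroup (G ⧸ U), Nat.card (E.comap π) = p ^ u * Nat.card E := by
    intro E
    have h := relIndex_mul_relIndex (⊥ : Subgroup G) U (E.comap π) bot_le
      (fun x hx => by rw [mem_comap, show π x = 1 from (QuotientGroup.eq_one_iff x).mpr hx]; exact one_mem E)
    rw [relIndex_bot_left, relIndex_bot_left, hu] at h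
    rw [← h]
    congr 1
    have hr := Subgroup.relIndex_ker (E.comap π) π
    rw [QuotientGroup.ker_mk', map_comap_eq_self_of_surjective hπ] at hr
    exact hr
  haveI : (Q.map π).Normal := Subgroup.Normal.map inferInstance π hπ
  have hback : (Q.map π).comap π = Q := by
    rw [comap_map_eq, QuotientGroup.ker_mk', sup_eq_left.mpr hUQ]
  have hQbar : p ^ (k - u) < Nat.card (Q.map π) := by
    have h1 := hcomapcard (Q.map π)
    rw [hback, hb] at h1
    refine Nat.lt_of_mul_lt_mul_left (a := p ^ u) ?_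
    rw [← h1, ← pow_add, show u + (k - u) = k by omega]
    exact Nat.pow_lt_pow_right hp1 hkb
  have hssU : Cfsg.IsSupersolvable (G ⧸ U) := by
    have hlt : Nat.card (G ⧸ U) + Nat.card (Q.map π) < n := by
      rw [← hn]
      exact Nat.add_lt_add_of_lt_of_le (Cfsg.Lib.Coprime.card_quotient_lt hU1)
        (Nat.le_of_dvd Nat.card_pos (Subgroup.card_map_dvd Q π))
    refine ih _ hlt (G ⧸ U) (Q.map π) rfl (hQ.map π) (k - u) (by omega) hQbar ?_
      (fun h => absurd h hp)
      (Cfsg.Lib.SolvStruct.isSupersolvable_of_surjective hss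
        (QuotientGroup.quotientQuotientEquivQuotient U Q hUQ).symm.toMonoidHom
        (QuotientGroup.quotientQuotientEquivQuotient U Q hUQ).symm.surjective)
    intro F hF hFc
    have hFn : (F.comap π).Normal := hN _ (hback ▸ comap_mono hF)
      (by rw [hcomapcard, hFc, ← pow_add]; congr 1; omega)
    rw [← map_comap_eq_self_of_surjective hπ F]
    exact hFn.map π hπ
  -- a normal subgroup of index `p` in `Q` above `U`
  have hUlt : U < Q := by
    refine lt_of_le_of_ne hUQ fun h => ?_
    rw [h, hb] at hu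
    have := Nat.pow_right_injective (Fact.out : p.Prime).two_le hu
    omega
  obtain ⟨R, ⟨hUR, hRlt, hRn⟩, hRmax⟩ := WellFounded.has_min
    (wellFounded_gt (α := Subgroup G)) {R | U ≤ R ∧ R < Q ∧ R.Normal} ⟨U, le_rfl, hUlt, hUn⟩
  haveI := hRn
  set ρ := QuotientGroup.mk' R
  have hρ : Function.Surjective ρ := QuotientGroup.mk'_surjective R
  have hssR : Cfsg.IsSupersolvable (G ⧸ R) :=
    Cfsg.Lib.SolvStruct.isSupersolvable_of_surjective hssU
      (QuotientGroup.map U R (MonoidHom.id G) hUR)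
      (QuotientGroup.map_surjective_of_surjective _ _ _
        ((QuotientGroup.mk'_surjective R).comp Function.surjective_id) hUR)
  haveI : (Q.map ρ).Normal := Subgroup.Normal.map inferInstance ρ hρ
  have hQρ : Q.map ρ ≠ ⊥ := by
    rw [Ne, Subgroup.map_eq_bot_iff, QuotientGroup.ker_mk']
    exact hRlt.not_ge
  obtain ⟨C, hCn, hCQ, hCp⟩ := Cfsg.Lib.SolvStruct.exists_normal_prime_le hssR (Q.map ρ) hQρ
  have hCQ' : C.comap ρ ≤ Q := by
    intro x hx
    obtain ⟨y, hy, hyx⟩ := hCQ hx
    have h1 : y⁻¹ * x ∈ R := (QuotientGroup.eq).mp hyx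
    simpa using mul_mem hy (hRlt.le h1)
  have hRC : R < C.comap ρ := by
    refine lt_of_le_of_ne (fun x hx => ?_) fun h => ?_
    · rw [mem_comap, show ρ x = 1 from (QuotientGroup.eq_one_iff x).mpr hx]; exact one_mem C
    · have h1 : C = ⊥ := by
        rw [← map_comap_eq_self_of_surjective hρ C, ← h]
        exact QuotientGroup.map_mk'_self R
      rw [h1, Subgroup.card_bot] at hCp
      exact Nat.not_prime_one hCp
  have hCeq : C.comap ρ = Q := by
    by_contra h
    exact hRmax _ ⟨hUR.trans hRC.le, lt_of_le_of_ne hCQ' h, hCn.comap ρ⟩ hRC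
  obtain ⟨r, hr⟩ := IsPGroup.iff_card.mp (hQ.to_le hRlt.le)
  have hidx : Nat.card Q = Nat.card R * Nat.card C := by
    have h := relIndex_mul_relIndex (⊥ : Subgroup G) R Q bot_le hRlt.le
    rw [relIndex_bot_left, relIndex_bot_left] at h
    rw [← h]
    congr 1
    have hrel := Subgroup.relIndex_ker Q ρ
    rw [QuotientGroup.ker_mk'] at hrel
    rw [hrel, ← hCeq, map_comap_eq_self_of_surjective hρ]
  have hCcard : Nat.card C = p := by
    have h1 : Nat.card C ∣ p ^ b := hb ▸ hidx ▸ dvd_mul_left _ _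
    exact (Nat.prime_dvd_prime_iff_eq hCp Fact.out).mp (hCp.dvd_of_dvd_pow h1)
  rw [hb, hr, hCcard, ← pow_succ] at hidx
  obtain rfl : b = r + 1 := Nat.pow_right_injective (Fact.out : p.Prime).two_le hidx
  refine ih _ ?_ G R rfl (hQ.to_le hRlt.le) k hk (hr ▸ Nat.pow_lt_pow_right hp1 (by omega))
    (fun F hF => hN F (hF.trans hRlt.le)) (fun h => absurd h hp) hssR
  rw [← hn, hr, hb]
  exact Nat.add_lt_add_left (Nat.pow_lt_pow_right hp1 (by omega)) _

theorem supersolvable_of_normal {G : Type u} [Group G] [Finite G] {p : ℕ} [Fact p.Prime]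
    {Q : Subgroup G} [Q.Normal] (hQ : IsPGroup p Q) {k : ℕ} (hk : 1 ≤ k) (hd : p ^ k < Nat.card Q)
    (hN : ∀ F : Subgroup G, F ≤ Q → Nat.card F = p ^ k → F.Normal)
    (h4 : p = 2 → k = 1 → ∀ F : Subgroup G, F ≤ Q → Nat.card F = 4 → F.Normal)
    (hss : Cfsg.IsSupersolvable (G ⧸ Q)) : Cfsg.IsSupersolvable G :=
  supersolvable_of_normal_aux p _ G Q rfl hQ k hk hd hN h4 hss

end Cfsg.Lib.HSub
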