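import Cfsg.Agent.Components.HSub.Tools
import Cfsg.Agent.Components.Local
import Cfsg.Agent.Thompson.PComplement
import Cfsg.Agent.Transfer.Tate
import Cfsg.Agent.Transfer.Control

/-!
Groups whose subgroups of one order in a Sylow subgroup for the least prime are strongly closed.
-/

set_option linter.style.haveILetI false
set_option linter.unusedSectionVars false

namespace Cfsg.Lib.HSub

open Subgroup
open scoped commutatorElement

universe u

section

variable {G : Type u} [Group G] [Finite G] {p : ℕ} [Fact p.Prime]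

/-- the subgroups of `P` of order `d` are strongly closed -/
def SC (P : Subgroup G) (d : ℕ) : Prop :=
  ∀ E : Subgroup G, E ≤ P → Nat.card E = d → ∀ g : G, ∀ x ∈ E, g * x * g⁻¹ ∈ P → g * x * g⁻¹ ∈ E

/-- the subgroups of `P` of order `d` are weakly closed -/
def WC (P : Subgroup G) (d : ℕ) : Prop :=
  ∀ E : Subgroup G, E ≤ P → Nat.card E = d → ∀ g : G, (∀ x ∈ E, g * x * g⁻¹ ∈ P) →
    ∀ x ∈ E, g * x * g⁻¹ ∈ E

theorem SC.wc {P : Subgroup G} {d : ℕ} (h : SC P d) : WC P d :=
  fun E hE hd g hg x hx => h E hE hd g x hx (hg x hx)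

/-- Frobenius' criterion reduced to elements of `P` -/
theorem nilp_of_commute (P : Sylow p G)
    (h : ∀ g : G, (orderOf g).Coprime p → ∀ Q : Subgroup G, Q ≤ P → g ∈ normalizer (Q : Set G) →
      ∀ x ∈ Q, (x ^ p = 1 ∨ (p = 2 ∧ x ^ 4 = 1)) → Commute g x) :
    Cfsg.HasNormalPComplement p G := by
  refine Cfsg.Lib.Transfer.hasNormalPComplement_of_frobenius fun Q hQ g hg hcop => ?_
  obtain ⟨S, hS⟩ := hQ.exists_le_sylow
  obtain ⟨h0, hh0⟩ := MulAction.exists_smul_eq G S P
  have key : ∀ x ∈ Q, (x ^ p = 1 ∨ (p = 2 ∧ x ^ 4 = 1)) → Commute g x := by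
    intro x hx hxp
    set c := MulAut.conj h0
    have h1 : Commute (c g) (c x) := by
      refine h (c g) ?_ (Q.map c.toMonoidHom) ?_ ?_ (c x) (mem_map_of_mem _ hx) ?_
      · rwa [show orderOf (c g) = orderOf g from orderOf_injective c.toMonoidHom c.injective g]
      · rw [← hh0, Cfsg.Lib.Transfer.sylow_smul_coe]
        exact Subgroup.map_mono hS
      · exact le_normalizer_map c.toMonoidHom (mem_map_of_mem _ hg)
      · rcases hxp with hxp | ⟨h2, hxp⟩
        · exact Or.inl (by rw [← map_pow, hxp, map_one])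
        · exact Or.inr ⟨h2, by rw [← map_pow, hxp, map_one]⟩
    exact c.injective (by simpa [map_mul] using h1.eq)
  rw [mem_centralizer_iff]
  intro x hx
  exact (commute_of_small hQ hg hcop (fun y hy hyp => key y hy (Or.inl hyp))
    (fun h2 y hy hyp => key y hy (Or.inr ⟨h2, hyp⟩)) x hx).symm.eq

theorem card_zpowers_small {x : G} (h : x ^ p = 1) : Nat.card (zpowers x) = 1 ∨ Nat.card (zpowers x) = p := by
  rw [Nat.card_zpowers]
  exact (Nat.dvd_prime Fact.out).mp (orderOf_dvd_of_pow_eq_one h)

theorem conj_mem_of_normalizer {Q : Subgroup G} {g x : G} (hg : g ∈ normalizer (Q : Set G))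
    (hx : x ∈ Q) : g * x * g⁻¹ ∈ Q := (mem_normalizer_iff.mp hg x).mp hx

/-- the case `d = p` -/
theorem nilp_of_wc (hmin : Least G p) (P : Sylow p G) (h1 : WC (P : Subgroup G) p)
    (h4 : p = 2 → WC (P : Subgroup G) 4) : Cfsg.HasNormalPComplement p G := by
  refine nilp_of_commute P fun g hcop Q hQP hg x hx hxp => ?_
  have hz : zpowers x ≤ (P : Subgroup G) := zpowers_le.mpr (hQP hx)
  have hconj : ∀ y ∈ zpowers x, g * y * g⁻¹ ∈ (P : Subgroup G) := fun y hy =>
    hQP (conj_mem_of_normalizer hg ((zpowers_le.mpr hx) hy))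
  have hfin : ∀ m : ℕ, WC (P : Subgroup G) m → Nat.card (zpowers x) = m →
      g * x * g⁻¹ ∈ zpowers x := fun m hW hm => hW _ hz hm g hconj x (mem_zpowers x)
  have hx2 : x ^ p ^ 2 = 1 := by
    rcases hxp with hxp | ⟨h2, hxp⟩
    · rw [sq, pow_mul, hxp, one_pow]
    · rw [h2]; norm_num; exact hxp
  obtain ⟨i, hi, hi'⟩ := (Nat.dvd_prime_pow Fact.out).mp (orderOf_dvd_of_pow_eq_one hx2)
  rw [← Nat.card_zpowers] at hi'
  interval_cases i
  · rw [pow_zero, Nat.card_zpowers, orderOf_eq_one_iff] at hi'
    rw [hi']; exact Commute.one_right g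
  · exact commute_of_normalizes_zpowers hmin hcop hx2 (hfin p h1 (by simpa using hi'))
  · rcases hxp with hxp | ⟨h2, -⟩
    · exfalso
      have h3 := orderOf_dvd_of_pow_eq_one hxp
      rw [← Nat.card_zpowers, hi'] at h3
      have h4' := Nat.le_of_dvd (Fact.out : p.Prime).pos h3
      have h5 := (Fact.out : p.Prime).two_le
      nlinarith
    · exact commute_of_normalizes_zpowers hmin hcop hx2 (hfin 4 (h4 h2) (by rw [hi', h2]; norm_num))

/-- `p = 2`, a central involution and `d = 4` -/
theorem nilp_of_sc_four (hp : p = 2) (hmin : Least G p) (P : Sylow p G)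
    (hSC : SC (P : Subgroup G) 4) {z : G} (hzP : z ∈ (P : Subgroup G)) (hz : z ∈ center G)
    (hzo : orderOf z = 2) : Cfsg.HasNormalPComplement p G := by
  subst hp
  refine nilp_of_commute P fun g hcop Q hQP hg x hx hxp => ?_
  have hx4 : x ^ 4 = 1 := by
    rcases hxp with hxp | ⟨-, hxp⟩
    · rw [show (4 : ℕ) = 2 * 2 from rfl, pow_mul, hxp, one_pow]
    · exact hxp
  obtain ⟨i, hi, hi'⟩ := (Nat.dvd_prime_pow Nat.prime_two).mp
    (orderOf_dvd_of_pow_eq_one (show x ^ 2 ^ 2 = 1 from hx4))
  have hcj : g * x * g⁻¹ ∈ (P : Subgroup G) := hQP (conj_mem_of_normalizer hg hx)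
  interval_cases i
  · rw [pow_zero, orderOf_eq_one_iff] at hi'
    rw [hi']; exact Commute.one_right g
  · have hx2 : x ^ 2 = 1 := by rw [show (2 : ℕ) = orderOf x by simpa using hi'.symm, pow_orderOf_eq_one]
    have hzg : Commute g z := mem_center_iff.mp hz g
    by_cases hxz : x = z
    · exact hxz ▸ hzg
    have hz2 : z * z = 1 := by rw [← sq, ← hzo, pow_orderOf_eq_one]
    have hxx : x * x = 1 := by rw [← sq]; exact hx2
    have hzx : Commute z x := (mem_center_iff.mp hz x).symm
    have hdisj : zpowers z ⊓ zpowers x = ⊥ := by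
      rw [eq_bot_iff]
      rintro y ⟨⟨i, rfl⟩, ⟨j, hj⟩⟩
      have e1 : z ^ i = 1 ∨ z ^ i = z := by
        rcases Int.even_or_odd' i with ⟨m, rfl | rfl⟩
        · left; rw [zpow_mul, zpow_two, hz2, one_zpow]
        · right; rw [zpow_add, zpow_mul, zpow_two, hz2, one_zpow, one_mul, zpow_one]
      have e2 : x ^ j = 1 ∨ x ^ j = x := by
        rcases Int.even_or_odd' j with ⟨m, rfl | rfl⟩
        · left; rw [zpow_mul, zpow_two, hxx, one_zpow]
        · right; rw [zpow_add, zpow_mul, zpow_two, hxx, one_zpow, one_mul, zpow_one]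
      have hj' : x ^ j = z ^ i := hj
      rw [mem_bot]
      rcases e1 with e1 | e1
      · exact e1
      · exfalso
        have hz1 : z ≠ 1 := fun h => by rw [h, orderOf_one] at hzo; exact absurd hzo (by norm_num)
        rcases e2 with e2 | e2
        · exact hz1 (e1.symm.trans (hj'.symm.trans e2))
        · exact hxz (e2.symm.trans (hj'.trans e1))
    have hle : zpowers x ≤ normalizer (zpowers z : Set G) := by
      refine le_trans (zpowers_le.mpr ?_) (centralizer_le_normalizer _)
      rw [zpowers_eq_closure, centralizer_closure]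
      exact mem_centralizer_singleton_iff.mpr hzx.symm.eq
    have hcard : Nat.card ↥(zpowers z ⊔ zpowers x) = 4 := by
      rw [Cfsg.Lib.Coprime.card_sup_of_inf_eq_bot hle hdisj, Nat.card_zpowers, Nat.card_zpowers,
        hzo, show orderOf x = 2 by simpa using hi']
    have hmem := hSC _ (sup_le (zpowers_le.mpr hzP) (zpowers_le.mpr (hQP hx))) hcard g x
      (mem_sup_right (mem_zpowers x)) hcj
    obtain ⟨a, ⟨i, rfl⟩, b, ⟨j, rfl⟩, hab⟩ := (Cfsg.Lib.Coprime.mem_sup_of_le_normalizer hle).mp hmem
    have hab' : z ^ i * x ^ j = g * x * g⁻¹ := hab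
    -- `g` moves `x` by a power of `z`
    have hj1 : x ^ j = x := by
      rcases Int.even_or_odd' j with ⟨m, rfl | rfl⟩
      · exfalso
        rw [zpow_mul, zpow_two, hxx, one_zpow, mul_one] at hab'
        have hfix : g⁻¹ * (g * x * g⁻¹) * g = g⁻¹ * z ^ i * g := by rw [hab']
        have hzi : g⁻¹ * z ^ i * g = z ^ i := by
          rw [mul_assoc, (hzg.zpow_right i).symm.eq, inv_mul_cancel_left]
        rw [hzi] at hfix
        have hxzi : x = z ^ i := by rw [← hfix]; group
        have hbot : x ∈ zpowers z ⊓ zpowers x := ⟨⟨i, hxzi.symm⟩, mem_zpowers x⟩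
        rw [hdisj, mem_bot] at hbot
        rw [hbot, orderOf_one] at hi'
        norm_num at hi'
      · rw [zpow_add, zpow_mul, zpow_two, hxx, one_zpow, one_mul, zpow_one]
    rw [hj1, (hzx.zpow_left i).eq] at hab'
    refine fixed_of_chain (p := 2) (k := 1) hcop ?_ (hzg.zpow_right i) hab'.symm
    rw [pow_one, sq, ← zpow_add, ← two_mul, zpow_mul, zpow_two, hz2, one_zpow]
  · refine commute_of_normalizes_zpowers hmin hcop (k := 2) hx4 ?_
    exact hSC _ (zpowers_le.mpr (hQP hx)) (by rw [Nat.card_zpowers, hi']; norm_num) g x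
      (mem_zpowers x) hcj

theorem exists_card_between {P X : Subgroup G} (hP : IsPGroup p P) (hXP : X ≤ P) {n : ℕ}
    (hX : Nat.card X ≤ p ^ n) (hn : p ^ n ≤ Nat.card P) :
    ∃ E : Subgroup G, X ≤ E ∧ E ≤ P ∧ Nat.card E = p ^ n := by
  obtain ⟨a, ha⟩ := IsPGroup.iff_card.mp (hP.to_le hXP)
  obtain ⟨b, hb⟩ := IsPGroup.iff_card.mp hP
  rw [ha] at hX
  rw [hb] at hn
  have hp := (Fact.out : p.Prime).one_lt
  obtain ⟨K, hK, hXK⟩ := Sylow.exists_subgroup_card_pow_prime_le p
    (hb ▸ pow_dvd_pow p ((Nat.pow_le_pow_iff_right hp).mp hn) : p ^ n ∣ Nat.card P)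
    (X.subgroupOf P) ((Nat.card_congr (subgroupOfEquivOfLe hXP).toEquiv).trans ha)
    ((Nat.pow_le_pow_iff_right hp).mp hX)
  refine ⟨K.map P.subtype, fun x hx => ⟨⟨x, hXP hx⟩, hXK hx, rfl⟩, map_subtype_le _, ?_⟩
  rw [Subgroup.card_map_of_injective P.subtype_injective, hK]

end

/-- the induction statement -/
def Main (p : ℕ) (n : ℕ) : Prop :=
  ∀ (G : Type u) [Group G] [Finite G], Nat.card G = n → Least G p → ∀ (P : Sylow p G) (k : ℕ),
    1 ≤ k → p ^ k < Nat.card P → SC (P : Subgroup G) (p ^ k) →
    (p = 2 → k = 1 → WC (P : Subgroup G) 4) → Cfsg.HasNormalPComplement p G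

variable {G : Type u} [Group G] [Finite G] {p : ℕ} [Fact p.Prime]

theorem main_subgroup {n : ℕ} (ih : ∀ m < n, Main.{u} p m) (hn : Nat.card G = n) (hmin : Least G p)
    (P : Sylow p G) {k : ℕ} (hk : 1 ≤ k) (hSC : SC (P : Subgroup G) (p ^ k))
    (h4 : p = 2 → k = 1 → WC (P : Subgroup G) 4) (H : Subgroup G) (hH : H ≠ ⊤) (S : Sylow p H)
    (hSP : (S : Subgroup H).map H.subtype ≤ P) (hS : p ^ k < Nat.card S) :
    Cfsg.HasNormalPComplement p H := by
  have hlt : Nat.card H < n := by
    rw [← hn]
    refine lt_of_le_of_ne (Nat.le_of_dvd Nat.card_pos (card_subgroup_dvd_card H)) fun h => hH ?_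
    exact Subgroup.eq_top_of_card_eq H h
  refine ih _ hlt H rfl (hmin.subgroup H) S k hk hS ?_ ?_
  · intro E hE hd g x hx hgx
    have := hSC (E.map H.subtype) ((Subgroup.map_mono hE).trans hSP)
      (by rw [Subgroup.card_map_of_injective H.subtype_injective, hd]) g x (mem_map_of_mem _ hx)
      (hSP (mem_map_of_mem H.subtype hgx))
    obtain ⟨y, hy, hyx⟩ := this
    rwa [show g * x * g⁻¹ = y from (Subtype.ext hyx).symm]
  · intro h2 h1 E hE hd g hg x hx
    have := h4 h2 h1 (E.map H.subtype) ((Subgroup.map_mono hE).trans hSP)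
      (by rw [Subgroup.card_map_of_injective H.subtype_injective, hd]) g
      (by rintro _ ⟨y, hy, rfl⟩; exact hSP (mem_map_of_mem H.subtype (hg y hy)))
      x (mem_map_of_mem _ hx)
    obtain ⟨y, hy, hyx⟩ := this
    rwa [show g * x * g⁻¹ = y from (Subtype.ext hyx).symm]

/-- a proper subgroup containing `P` -/
theorem main_over {n : ℕ} (ih : ∀ m < n, Main.{u} p m) (hn : Nat.card G = n) (hmin : Least G p)
    (P : Sylow p G) {k : ℕ} (hk : 1 ≤ k) (hd : p ^ k < Nat.card P)
    (hSC : SC (P : Subgroup G) (p ^ k)) (h4 : p = 2 → k = 1 → WC (P : Subgroup G) 4)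
    (H : Subgroup G) (hH : H ≠ ⊤) (hPH : (P : Subgroup G) ≤ H) :
    Cfsg.HasNormalPComplement p H := by
  refine main_subgroup ih hn hmin P hk hSC h4 H hH (P.subtype hPH) ?_ ?_
  · rw [Sylow.coe_subtype, map_subgroupOf_eq_of_le hPH]
  · rw [Sylow.coe_subtype, Nat.card_congr (subgroupOfEquivOfLe hPH).toEquiv]; exact hd

/-- existence of a normal `p`-subgroup -/
theorem exists_normal_pGroup {n : ℕ} (ih : ∀ m < n, Main.{u} p m) (hn : Nat.card G = n)
    (hmin : Least G p) (P : Sylow p G) {k : ℕ} (hk : 2 ≤ k) (hd : p ^ k < Nat.card P)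
    (hSC : SC (P : Subgroup G) (p ^ k)) (hG : ¬ Cfsg.HasNormalPComplement p G) :
    ∃ U : Subgroup G, U.Normal ∧ IsPGroup p U ∧ U ≠ ⊥ := by
  by_contra hne
  push Not at hne
  have hP1 : (P : Subgroup G) ≠ ⊥ := fun h => by
    rw [h, Subgroup.card_bot] at hd
    exact absurd hd (Nat.not_lt.mpr (Nat.one_le_pow _ _ (Fact.out : p.Prime).pos))
  have hover : ∀ H : Subgroup G, H ≠ ⊤ → (P : Subgroup G) ≤ H → Cfsg.HasNormalPComplement p H :=
    main_over ih hn hmin P (by omega) hd hSC (fun _ h => absurd h (by omega))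
  apply hG
  by_cases hp : p = 2
  · -- maximal subgroups of `P` are strongly closed
    subst hp
    have hclosed : ∀ M : Subgroup (P : Subgroup G), IsCoatom M → ∀ x ∈ M.map (P : Subgroup G).subtype,
        ∀ g : G, g * x * g⁻¹ ∈ (P : Subgroup G) → g * x * g⁻¹ ∈ M.map (P : Subgroup G).subtype := by
      intro M hM x hx g hgx
      obtain ⟨hMn, hMi⟩ := Cfsg.Lib.PGroups.coatom_normal_index P.2 hM
      set T := M.map (P : Subgroup G).subtype
      have hTP : T ≤ (P : Subgroup G) := map_subtype_le _
      have hTcard : 2 ^ k ≤ Nat.card T := by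
        rw [Subgroup.card_map_of_injective (P : Subgroup G).subtype_injective]
        have := M.card_mul_index
        rw [hMi] at this
        obtain ⟨b, hb⟩ := IsPGroup.iff_card.mp P.2
        change 2 ^ k < Nat.card (P : Subgroup G) at hd
        rw [hb] at hd this
        have hb' : k < b := (Nat.pow_lt_pow_iff_right (by norm_num)).mp hd
        have : 2 ^ (k + 1) ≤ 2 ^ b := Nat.pow_le_pow_right (by norm_num) hb'
        rw [pow_succ] at this
        omega
      have hTp : IsPGroup 2 T := P.2.to_le hTP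
      by_cases hsmall : orderOf x ≤ 2 ^ k
      · obtain ⟨E, hxE, hET, hE⟩ := exists_card_between hTp (zpowers_le.mpr hx)
          (by rw [Nat.card_zpowers]; exact hsmall) hTcard
        exact hET (hSC E (hET.trans hTP) hE g x (hxE (mem_zpowers x)) hgx)
      · obtain ⟨a, ha⟩ := IsPGroup.iff_orderOf.mp hTp ⟨x, hx⟩
        rw [Subgroup.orderOf_mk] at ha
        have hka : k < a := by
          by_contra h
          exact hsmall (ha ▸ Nat.pow_le_pow_right (by norm_num) (Nat.not_lt.mp h))
        set e := x ^ 2 ^ (a - k) with he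
        have heo : orderOf e = 2 ^ k := by
          rw [he, orderOf_pow' _ (pow_ne_zero _ (by norm_num)), ha,
            Nat.gcd_eq_right (pow_dvd_pow 2 (Nat.sub_le a k)), Nat.pow_div (Nat.sub_le a k) (by norm_num)]
          congr 1; omega
        have hcard : Nat.card (zpowers e) = 2 ^ k := by rw [Nat.card_zpowers, heo]
        have heP : zpowers e ≤ (P : Subgroup G) := zpowers_le.mpr (pow_mem (hTP hx) _)
        have hge : g * e * g⁻¹ ∈ (P : Subgroup G) := by
          rw [he, ← conj_pow]; exact pow_mem hgx _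
        set E := zpowers e with hE
        have hPE : (P : Subgroup G) ≤ normalizer (E : Set G) := by
          intro u hu
          rw [← Cfsg.Lib.Transfer.map_conj_eq_self_iff]
          refine Subgroup.eq_of_le_of_card_ge ?_ (le_of_eq ?_)
          · rw [hE, MonoidHom.map_zpowers, zpowers_le]
            exact hSC E heP hcard u e (mem_zpowers e)
              (mul_mem (mul_mem hu (heP (mem_zpowers e))) (inv_mem hu))
          · exact (Cfsg.Lib.Transfer.card_map_conj _ u).symm
        have hEne : E ≠ ⊥ := by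
          intro h
          rw [h, Subgroup.card_bot] at hcard
          exact absurd hcard.symm (Nat.one_lt_pow (by omega) (by norm_num)).ne'
        have hgE : g ∈ normalizer (E : Set G) := by
          rw [← Cfsg.Lib.Transfer.map_conj_eq_self_iff]
          refine Subgroup.eq_of_le_of_card_ge ?_ (le_of_eq ?_)
          · rw [hE, MonoidHom.map_zpowers, zpowers_le]
            exact hSC E heP hcard g e (mem_zpowers e) hge
          · exact (Cfsg.Lib.Transfer.card_map_conj _ g).symm
        set H := normalizer (E : Set G)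
        have hH : H ≠ ⊤ := fun h => hEne (hne E (normalizer_eq_top_iff.mp h) (P.2.to_le heP))
        obtain ⟨N, hN, hc⟩ := Cfsg.Lib.Transfer.exists_complement_of_hasNormalPComplement
          (hover H hH hPE) (P.subtype hPE)
        haveI := hN
        -- `g = n u` with `n` in the complement and `u ∈ P`
        obtain ⟨n, hnN, u, huP, hnu⟩ := mem_sup_of_normal_left.mp
          (hc.sup_eq_top.ge (mem_top (⟨g, hgE⟩ : ↥H)))
        have huP' : (u : G) ∈ (P : Subgroup G) := by rw [Sylow.coe_subtype] at huP; exact huP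
        let y : ↥H := ⟨(u : G) * x * (u : G)⁻¹, hPE (mul_mem (mul_mem huP' (hTP hx)) (inv_mem huP'))⟩
        have hyP : y ∈ (P.subtype hPE : Subgroup ↥H) := by
          rw [Sylow.coe_subtype, mem_subgroupOf]
          exact mul_mem (mul_mem huP' (hTP hx)) (inv_mem huP')
        have hgy : g * x * g⁻¹ = ((n * y * n⁻¹ : ↥H) : G) := by
          have : g = (n : G) * (u : G) := (congrArg Subtype.val hnu).symm
          rw [this]; simp [y, mul_assoc]
        have hcomm : n * y * n⁻¹ * y⁻¹ ∈ N ⊓ (P.subtype hPE : Subgroup ↥H) := by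
          refine ⟨?_, ?_⟩
          · rw [mul_assoc n, mul_assoc n]
            exact mul_mem hnN (hN.conj_mem _ (inv_mem hnN) y)
          · show n * y * n⁻¹ * y⁻¹ ∈ (P.subtype hPE : Subgroup ↥H)
            refine Subgroup.mul_mem _ ?_ (Subgroup.inv_mem _ hyP)
            rw [Sylow.coe_subtype, mem_subgroupOf, ← hgy]
            exact hgx
        rw [hc.disjoint.eq_bot, mem_bot, mul_inv_eq_one] at hcomm
        rw [hgy, hcomm]
        exact ⟨⟨(u : G), huP'⟩ * ⟨x, hTP hx⟩ * ⟨(u : G), huP'⟩⁻¹,
          hMn.conj_mem _ ((mem_map_iff_mem (P : Subgroup G).subtype_injective).mp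
            (show (P : Subgroup G).subtype ⟨x, hTP hx⟩ ∈ T from hx)) _, rfl⟩
    have hfoc : focalSubgroup (P : Subgroup G) ≤ (frattini (P : Subgroup G)).map (P : Subgroup G).subtype := by
      rw [focalSubgroup_def, closure_le]
      rintro _ ⟨hmem, x, hx, u, rfl⟩
      refine ⟨⟨_, hmem⟩, ?_, rfl⟩
      show _ ∈ frattini _
      simp only [frattini, Order.radical, mem_iInf]
      intro M hM
      obtain ⟨hMn, hMi⟩ := Cfsg.Lib.PGroups.coatom_normal_index P.2 hM
      -- `u x⁻¹ u⁻¹` and `x` are both in `M` or both outside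
      have hy : u * x⁻¹ * u⁻¹ ∈ (P : Subgroup G) := by
        have := mul_mem (inv_mem hx) hmem
        convert this using 1
        simp [commutatorElement_def, mul_assoc]
      have hiff : (⟨x, hx⟩ : (P : Subgroup G)) ∈ M ↔ (⟨_, hy⟩ : (P : Subgroup G)) ∈ M := by
        constructor
        · intro h
          have := hclosed M hM x⁻¹ ⟨⟨x, hx⟩⁻¹, inv_mem h, rfl⟩ u hy
          exact (mem_map_iff_mem (P : Subgroup G).subtype_injective).mp
            (show (P : Subgroup G).subtype ⟨_, hy⟩ ∈ M.map (P : Subgroup G).subtype from this)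
        · intro h
          have hback : u⁻¹ * (u * x⁻¹ * u⁻¹) * (u⁻¹)⁻¹ = x⁻¹ := by group
          have := hclosed M hM (u * x⁻¹ * u⁻¹) ⟨_, h, rfl⟩ u⁻¹ (by rw [hback]; exact inv_mem hx)
          rw [hback] at this
          have h' : (⟨x, hx⟩⁻¹ : (P : Subgroup G)) ∈ M :=
            (mem_map_iff_mem (P : Subgroup G).subtype_injective).mp
              (show (P : Subgroup G).subtype ⟨x, hx⟩⁻¹ ∈ M.map (P : Subgroup G).subtype from this)
          exact inv_mem_iff.mp h'
      have hprod : (⟨x, hx⟩ * ⟨_, hy⟩ : (P : Subgroup G)) ∈ M :=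
        (mul_mem_iff_of_index_two hMi).mpr hiff
      convert hprod using 1
      apply Subtype.ext
      simp [commutatorElement_def, mul_assoc]
    have hK : Cfsg.pResidual 2 G ⊓ (P : Subgroup G) ≤
        (frattini (P : Subgroup G)).map (P : Subgroup G).subtype :=
      (Cfsg.Lib.Transfer.pResidual_inf_le_focal P).trans hfoc
    have hidem : Cfsg.pResidual 2 ↥(Cfsg.pResidual 2 G) = ⊤ := by
      have h := Cfsg.Lib.Transfer.isPGroup_pResidual_idem (p := 2) (⊤ : Subgroup G)
      have he : (Cfsg.pResidual 2 ↥(⊤ : Subgroup G)).map (⊤ : Subgroup G).subtype = Cfsg.pResidual 2 G := by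
        refine le_antisymm (Cfsg.Lib.Transfer.pResidual_map_le _) ((closure_le _).mpr fun y hy => ?_)
        refine ⟨⟨y, mem_top y⟩, Cfsg.Lib.Transfer.mem_pResidual_of_coprime ?_, rfl⟩
        rwa [Subgroup.orderOf_mk]
      rw [he] at h
      exact h
    haveI : (Cfsg.pResidual 2 G).Normal := inferInstance
    have hbot := Cfsg.Lib.Transfer.inf_sylow_eq_bot_of_le_frattini P (Cfsg.pResidual 2 G) hidem hK
    rw [Cfsg.Lib.Transfer.hasNormalPComplement_iff_pResidual]
    have h1 := Cfsg.Lib.Components.relIndex_dvd_index_of_normal_right (P : Subgroup G) (Cfsg.pResidual 2 G)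
    rw [← inf_relIndex_right, inf_comm, hbot, relIndex_bot_left] at h1
    exact Nat.Coprime.coprime_dvd_left h1
      (((Fact.out : Nat.Prime 2).coprime_iff_not_dvd.mpr P.not_dvd_index).symm)
  · refine Cfsg.Lib.Thompson.hasNormalPComplement_of_thompson hp n G hn P ⟨?_, ?_⟩
    · refine hover _ (fun h => ?_) (le_normalizer.trans
        (Cfsg.Lib.Thompson.normalizer_le_normalizer_thompson _))
      exact Cfsg.Lib.Thompson.thompsonSubgroupOf_ne_bot P.2 hP1 (hne _ (normalizer_eq_top_iff.mp h)
        (P.2.to_le (Cfsg.Lib.Thompson.thompsonSubgroupOf_le _)))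
    · set Z : Subgroup G := (P : Subgroup G) ⊓ centralizer ((P : Subgroup G) : Set G)
      refine hover _ (fun h => ?_) ?_
      · have hZc : Z ≤ center G := centralizer_eq_top_iff_subset.mp h
        haveI : Z.Normal := ⟨fun x hx g => by
          rwa [mem_center_iff.mp (hZc hx) g, mul_inv_cancel_right]⟩
        exact Cfsg.Lib.Thompson.center_ne_bot P.2 hP1 (hne Z inferInstance (P.2.to_le inf_le_left))
      · intro u hu
        rw [mem_centralizer_iff]
        exact fun z hz => (mem_centralizer_iff.mp hz.2 u hu).symm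

theorem mem_zpowers_of_pow_eq_one {U : Type u} [Group U] [Finite U] [IsCyclic U] {p : ℕ}
    [Fact p.Prime] {y z : U} (hy : orderOf y = p) (hz : z ^ p = 1) : z ∈ zpowers y := by
  classical
  haveI := Fintype.ofFinite U
  have hle := IsCyclic.card_pow_eq_one_le (α := U) (Fact.out : p.Prime).pos
  have hsub : (Finset.univ.filter fun a : U => a ∈ zpowers y) ⊆
      Finset.univ.filter fun a : U => a ^ p = 1 := by
    intro a ha
    simp only [Finset.mem_filter, Finset.mem_univ, true_and] at ha ⊢
    rw [← hy]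
    exact orderOf_dvd_iff_pow_eq_one.mp ((Subgroup.orderOf_dvd_natCard _ ha).trans
      (Nat.card_zpowers y).dvd)
  have hcard : (Finset.univ.filter fun a : U => a ∈ zpowers y).card = p := by
    rw [← Fintype.card_subtype, ← Nat.card_eq_fintype_card]
    exact (Nat.card_zpowers y).trans hy
  have heq := Finset.eq_of_subset_of_card_le hsub (by omega)
  have hmem : z ∈ Finset.univ.filter fun a : U => a ^ p = 1 := by simpa using hz
  rw [← heq] at hmem
  simpa using hmem

/-- the main induction -/
theorem main (p : ℕ) [Fact p.Prime] : ∀ n, Main.{u} p n := by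
  intro n
  induction n using Nat.strong_induction_on with
  | _ n ih =>
  intro G _ _ hn hmin P k hk hd hSC h4
  by_contra hG
  by_cases hk1 : k = 1
  · subst hk1
    rw [pow_one] at hSC
    exact hG (nilp_of_wc hmin P hSC.wc fun h2 => h4 h2 rfl)
  have hk2 : 2 ≤ k := by omega
  obtain ⟨b, hb⟩ := IsPGroup.iff_card.mp P.2
  change p ^ k < Nat.card (P : Subgroup G) at hd
  have hp1 := (Fact.out : p.Prime).one_lt
  have hkb : k < b := (Nat.pow_lt_pow_iff_right hp1).mp (hb ▸ hd)
  obtain ⟨U, ⟨hUn, hUp, hU1⟩, hUmin⟩ := WellFounded.has_min (wellFounded_lt (α := Subgroup G))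
    {U | U.Normal ∧ IsPGroup p U ∧ U ≠ ⊥} (exists_normal_pGroup ih hn hmin P hk2 hd hSC hG)
  haveI := hUn
  have hUP : U ≤ (P : Subgroup G) := Cfsg.Lib.Thompson.le_sylow_of_normal hUp P
  obtain ⟨u, hu⟩ := IsPGroup.iff_card.mp hUp
  have hu1 : 1 ≤ u := by
    by_contra h
    rw [show u = 0 by omega, pow_zero] at hu
    exact hU1 (Subgroup.card_eq_one.mp hu)
  -- minimality: normal subgroups inside `U`
  have hminU : ∀ V : Subgroup G, V ≤ U → (∀ g : G, ∀ x ∈ V, g * x * g⁻¹ ∈ V) → V = ⊥ ∨ V = U := by
    intro V hV hVn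
    by_contra h
    push Not at h
    exact hUmin V ⟨⟨fun x hx g => hVn g x hx⟩, hUp.to_le hV, h.1⟩ (lt_of_le_of_ne hV h.2)
  have hUconj : ∀ g : G, ∀ x ∈ U, g * x * g⁻¹ ∈ (P : Subgroup G) := fun g x hx =>
    hUP (hUn.conj_mem x hx g)
  -- a subgroup of order `p` of `U`, if normal, is `U`
  have hcyc : IsCyclic U → u = 1 := by
    intro hc
    obtain ⟨y, hy⟩ := exists_prime_orderOf_dvd_card' (G := U) p (hu ▸ dvd_pow_self p (by omega))
    rcases hminU ((zpowers y).map U.subtype) (map_subtype_le _) (fun g x hx => by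
      obtain ⟨x', hx', rfl⟩ := hx
      let φ : ↥U ≃* ↥U := MulAut.conjNormal g
      exact ⟨φ x', mem_zpowers_of_pow_eq_one hy (by
        rw [← map_pow, ← hy, orderOf_dvd_iff_pow_eq_one.mp (Subgroup.orderOf_dvd_natCard _ hx' |>.trans
          (Nat.card_zpowers y).dvd), map_one]), MulAut.conjNormal_apply g x'⟩) with h | h
    · exfalso
      rw [map_eq_bot_iff_of_injective _ U.subtype_injective, zpowers_eq_bot] at h
      rw [h, orderOf_one] at hy
      exact (Fact.out : p.Prime).ne_one hy.symm
    · have := congrArg (fun V : Subgroup G => Nat.card V) h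
      simp only [Subgroup.card_map_of_injective U.subtype_injective, Nat.card_zpowers, hy, hu] at this
      exact ((Nat.pow_eq_self_iff hp1).mp this.symm)
  have huk : u < k := by
    by_contra hle
    rcases Nat.lt_or_ge k u with hlt | hge
    · obtain ⟨E, -, hEU, hE⟩ := exists_card_between (p := p) (n := k) hUp (bot_le (a := U))
        (by rw [Subgroup.card_bot]; exact Nat.one_le_pow _ _ (Fact.out : p.Prime).pos)
        (hu ▸ Nat.pow_le_pow_right (Fact.out : p.Prime).pos hlt.le)
      rcases hminU E hEU (fun g x hx => hSC E (hEU.trans hUP) hE g x hx (hUconj g x (hEU hx))) with h | h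
      · rw [h, Subgroup.card_bot] at hE
        exact absurd hE (Nat.one_lt_pow (by omega) hp1).ne
      · rw [h, hu] at hE
        have := Nat.pow_right_injective (Fact.out : p.Prime).two_le hE
        omega
    · obtain rfl : u = k := by omega
      obtain ⟨S, hUS, hSP, hS⟩ := exists_card_between (n := u + 1) P.2 hUP
        (hu ▸ Nat.pow_le_pow_right (Fact.out : p.Prime).pos (by omega))
        (hb ▸ Nat.pow_le_pow_right (Fact.out : p.Prime).pos hkb)
      have hSp : IsPGroup p S := P.2.to_le hSP
      -- a maximal subgroup of `S` different from `U`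
      obtain ⟨M, hM, hMU⟩ : ∃ M : Subgroup S, IsCoatom M ∧ M.map S.subtype ≠ U := by
        by_contra hall
        push Not at hall
        have hUne : U ≠ S := fun h => by
          rw [h, hS] at hu
          exact absurd (Nat.pow_right_injective (Fact.out : p.Prime).two_le hu) (by omega)
        obtain ⟨x, hxS, hxU⟩ : ∃ x ∈ S, x ∉ U := by
          by_contra h
          push Not at h
          exact hUne (le_antisymm hUS h)
        have htop : zpowers (⟨x, hxS⟩ : S) = ⊤ := by
          by_contra hne
          obtain ⟨M, hM, hle⟩ := (eq_top_or_exists_le_coatom _).resolve_left hne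
          exact hxU ((hall M hM).le (mem_map_of_mem S.subtype (hle (mem_zpowers _))))
        haveI : IsCyclic S := ⟨⟨⟨x, hxS⟩, fun y => htop.ge (mem_top y)⟩⟩
        have := hcyc (isCyclic_of_injective (inclusion hUS) (inclusion_injective hUS))
        omega
      obtain ⟨-, hMi⟩ := Cfsg.Lib.PGroups.coatom_normal_index hSp hM
      set T := M.map S.subtype
      have hTS : T ≤ S := map_subtype_le _
      have hT : Nat.card T = p ^ u := by
        rw [Subgroup.card_map_of_injective S.subtype_injective]
        have h1 := M.card_mul_index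
        rw [hMi, hS, pow_succ] at h1
        exact Nat.eq_of_mul_eq_mul_right (Fact.out : p.Prime).pos h1
      rcases hminU (U ⊓ T) inf_le_left (fun g x hx => ⟨hUn.conj_mem x hx.1 g,
          hSC T (hTS.trans hSP) hT g x hx.2 (hUconj g x hx.1)⟩) with h | h
      · have hle : (U ⊔ T) ≤ S := sup_le hUS hTS
        have h1 := Cfsg.Lib.Coprime.card_sup_of_inf_eq_bot
          (le_top.trans (normalizer_eq_top (H := U)).ge) h
        have h2 := Subgroup.card_le_of_le hle
        rw [h1, hu, hT, hS, ← pow_add] at h2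
        have := (Nat.pow_le_pow_iff_right hp1).mp h2
        omega
      · have hUT : U ≤ T := h ▸ inf_le_right
        exact hMU (Subgroup.eq_of_le_of_card_ge hUT (by rw [hT, hu])).symm
  -- the quotient
  set π := QuotientGroup.mk' U
  have hπ : Function.Surjective π := QuotientGroup.mk'_surjective U
  set P' := P.mapSurjective hπ
  have hP'card : Nat.card (P' : Subgroup (G ⧸ U)) * p ^ u = Nat.card (P : Subgroup G) := by
    have h := relIndex_mul_relIndex (⊥ : Subgroup G) U (P : Subgroup G) bot_le hUP
    rw [relIndex_bot_left, relIndex_bot_left, hu] at h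
    rw [← h, mul_comm]
    congr 1
    have hr := Subgroup.relIndex_ker (P : Subgroup G) π
    rw [QuotientGroup.ker_mk'] at hr
    exact hr.symm
  have hP'comap : (P' : Subgroup (G ⧸ U)).comap π = (P : Subgroup G) := by
    show ((P : Subgroup G).map π).comap π = _
    rw [comap_map_eq, QuotientGroup.ker_mk', sup_eq_left.mpr hUP]
  have hcomapcard : ∀ E : Subgroup (G ⧸ U), Nat.card (E.comap π) = p ^ u * Nat.card E := by
    intro E
    have h := relIndex_mul_relIndex (⊥ : Subgroup G) U (E.comap π) bot_le
      (fun x hx => by rw [mem_comap, show π x = 1 from (QuotientGroup.eq_one_iff x).mpr hx]; exact one_mem E)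
    rw [relIndex_bot_left, relIndex_bot_left, hu] at h
    rw [← h]
    congr 1
    have hr := Subgroup.relIndex_ker (E.comap π) π
    rw [QuotientGroup.ker_mk', map_comap_eq_self_of_surjective hπ] at hr
    exact hr
  have hlift : ∀ (E : Subgroup (G ⧸ U)) (g : G) (x : G), π (g * x * g⁻¹) ∈ E →
      g * x * g⁻¹ ∈ E.comap π := fun E g x h => h
  have hquot : Cfsg.HasNormalPComplement p (G ⧸ U) := by
    have hlt : Nat.card (G ⧸ U) < n := by
      rw [← hn, Subgroup.card_eq_card_quotient_mul_card_subgroup U, hu]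
      exact lt_mul_of_one_lt_right Nat.card_pos (Nat.one_lt_pow (by omega) hp1)
    refine ih _ hlt (G ⧸ U) rfl (hmin.quotient U) P' (k - u) (by omega) ?_ ?_ ?_
    · change p ^ (k - u) < Nat.card (P' : Subgroup (G ⧸ U))
      by_contra hle
      have h1 := Nat.mul_le_mul_right (p ^ u) (Nat.not_lt.mp hle)
      rw [hP'card, ← pow_add, show k - u + u = k by omega] at h1
      omega
    · intro E hE hEd g x hx hgx
      obtain ⟨g, rfl⟩ := hπ g
      obtain ⟨x, rfl⟩ := hπ x
      rw [← map_inv, ← map_mul, ← map_mul] at hgx ⊢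
      refine hSC (E.comap π) (hP'comap ▸ comap_mono hE) ?_ g x hx ?_
      · rw [hcomapcard, hEd, ← pow_add]; congr 1; omega
      · rw [← hP'comap]; exact hgx
    · intro h2 hku
      subst h2
      by_cases hu1' : u = 1
      · subst hu1'
        exfalso
        obtain rfl : k = 2 := by omega
        obtain ⟨z, hz⟩ := exists_prime_orderOf_dvd_card' (G := U) 2 (hu ▸ dvd_pow_self 2 one_ne_zero)
        have hzU : zpowers (z : G) = U := by
          refine Subgroup.eq_of_le_of_card_ge (zpowers_le.mpr z.2) ?_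
          rw [Nat.card_zpowers, Subgroup.orderOf_coe, hz, hu, pow_one]
        refine hG (nilp_of_sc_four rfl hmin P hSC (hUP z.2) ?_ (by rw [Subgroup.orderOf_coe, hz]))
        rw [mem_center_iff]
        intro g
        have hgz : g * (z : G) * g⁻¹ = z := by
          have hm : g * (z : G) * g⁻¹ ∈ zpowers (z : G) := hzU.ge (hUn.conj_mem _ z.2 g)
          have hord : orderOf (z : G) = 2 := by rw [Subgroup.orderOf_coe, hz]
          obtain ⟨i, hi⟩ := hm
          have hi' : (z : G) ^ i = g * (z : G) * g⁻¹ := hi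
          rcases Int.even_or_odd' i with ⟨m, rfl | rfl⟩
          · exfalso
            rw [zpow_mul, zpow_two, ← sq, show (z : G) ^ 2 = 1 by rw [← hord, pow_orderOf_eq_one],
              one_zpow] at hi'
            have h1 : (z : G) = 1 := by
              have := congrArg (fun y => g⁻¹ * y * g) hi'
              simpa [mul_assoc] using this.symm
            rw [h1, orderOf_one] at hord
            exact absurd hord (by norm_num)
          · rw [← hi', zpow_add, zpow_mul, zpow_two, ← sq,
              show (z : G) ^ 2 = 1 by rw [← hord, pow_orderOf_eq_one], one_zpow, one_mul, zpow_one]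
        exact mul_inv_eq_iff_eq_mul.mp hgz
      intro E hE hE4 g hg x hx
      obtain ⟨g, rfl⟩ := hπ g
      obtain ⟨x, rfl⟩ := hπ x
      set S := E.comap π with hSdef
      have hSP : S ≤ (P : Subgroup G) := hP'comap ▸ comap_mono hE
      have hUS : U ≤ S := fun y hy => by
        rw [hSdef, mem_comap, show π y = 1 from (QuotientGroup.eq_one_iff y).mpr hy]; exact one_mem E
      have hScard : Nat.card S = 2 ^ k * 2 := by
        rw [hSdef, hcomapcard, hE4, show k = u + 1 by omega, pow_succ]; ring
      have hSg : ∀ y ∈ S, g * y * g⁻¹ ∈ (P : Subgroup G) := by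
        intro y hy
        rw [← hP'comap]
        show π (g * y * g⁻¹) ∈ (P' : Subgroup (G ⧸ U))
        rw [map_mul, map_mul, map_inv]
        exact hg (π y) hy
      haveI : Nontrivial S := Finite.one_lt_card_iff_nontrivial.mp (by
        rw [hScard]; have := Nat.one_le_pow k 2 (by norm_num); omega)
      -- two maximal subgroups
      obtain ⟨M1, hM1, -⟩ := (eq_top_or_exists_le_coatom (⊥ : Subgroup S)).resolve_left bot_ne_top
      obtain ⟨y, hy⟩ : ∃ y : S, y ∉ M1 := by
        by_contra h
        push Not at h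
        exact hM1.1 (eq_top_iff.mpr fun y _ => h y)
      obtain ⟨M2, hM2, hyM2⟩ := (eq_top_or_exists_le_coatom (zpowers y)).resolve_left fun h => by
        haveI : IsCyclic S := ⟨⟨y, fun w => h.ge (mem_top w)⟩⟩
        exact hu1' (hcyc (isCyclic_of_injective (inclusion hUS) (inclusion_injective hUS)))
      have hSp : IsPGroup 2 S := P.2.to_le hSP
      have hMW : ∀ M : Subgroup S, IsCoatom M → ∀ w ∈ M, g * (w : G) * g⁻¹ ∈ S := by
        intro M hM w hw
        obtain ⟨-, hMi⟩ := Cfsg.Lib.PGroups.coatom_normal_index hSp hM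
        have hMc : Nat.card (M.map S.subtype) = 2 ^ k := by
          rw [Subgroup.card_map_of_injective S.subtype_injective]
          have h1 := M.card_mul_index
          rw [hMi, hScard] at h1
          omega
        refine map_subtype_le M (hSC.wc (M.map S.subtype) ((map_subtype_le M).trans hSP) hMc g
          (fun z hz => hSg z (map_subtype_le M hz)) _ (mem_map_of_mem S.subtype hw))
      have htop : M1 ⊔ M2 = ⊤ := hM1.2 _ (lt_of_le_of_ne le_sup_left fun h =>
        hy (h.ge (le_sup_right (a := M1) (hyM2 (mem_zpowers y)))))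
      let W : Subgroup S := (S.comap (MulAut.conj g).toMonoidHom).comap S.subtype
      have hW : W = ⊤ := top_le_iff.mp (htop ▸ sup_le (hMW M1 hM1) (hMW M2 hM2))
      rw [← map_inv, ← map_mul, ← map_mul]
      exact (hW.ge (mem_top (⟨x, hx⟩ : S)) : g * x * g⁻¹ ∈ S)
  -- `p'`-elements centralize `U`
  have hcent : ∀ g : G, (orderOf g).Coprime p → ∀ x ∈ U, Commute g x := by
    intro g hg
    obtain ⟨N', hN', hNc, j, hj⟩ := Cfsg.Lib.Transfer.hasNormalPComplement_iff.mp hquot
    haveI := hN'
    set K := N'.comap π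
    haveI : K.Normal := inferInstance
    have hgK : g ∈ K := Cfsg.Lib.Transfer.mem_of_isPGroup_quotient_of_coprime N'
      (Cfsg.Lib.Transfer.isPGroup_quotient_of_index N' hj)
      (hg.coprime_dvd_left (orderOf_map_dvd π g))
    have hUK : U ≤ K := fun y hy => by
      rw [mem_comap, show π y = 1 from (QuotientGroup.eq_one_iff y).mpr hy]; exact one_mem N'
    have hUKp : IsPGroup p (U.subgroupOf K) := hUp.of_equiv (subgroupOfEquivOfLe hUK).symm
    have hgn : (⟨g, hgK⟩ : K) ∈ normalizer ((U.subgroupOf K : Subgroup K) : Set K) := by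
      rw [normalizer_eq_top]; exact mem_top _
    intro x hx
    have hfinal : ∀ (H : Subgroup G), g ∈ H → U ≤ H → Cfsg.HasNormalPComplement p H → Commute g x := by
      intro H hgH hUH hH
      have := Cfsg.Lib.Transfer.centralize_of_hasNormalPComplement hH (U.subgroupOf H)
        (hUp.of_equiv (subgroupOfEquivOfLe hUH).symm) ⟨g, hgH⟩
        (by rw [normalizer_eq_top]; exact mem_top _) (by rwa [Subgroup.orderOf_mk])
      exact (congrArg Subtype.val (mem_centralizer_iff.mp this ⟨x, hUH hx⟩ hx)).symm
    by_cases hbig : k + 1 < b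
    · -- a normal subgroup of index `p` over `K`
      have hKi : K.index = p ^ j := by rw [index_comap_of_surjective _ hπ, hj]
      have hKt : K ≠ ⊤ := by
        intro h
        have h2 : K ⊓ (P : Subgroup G) = U := by
          refine le_antisymm (fun y hy => ?_) (le_inf hUK hUP)
          have hbot := Cfsg.Lib.Components.coprime_pGroup_disjoint (A := (P' : Subgroup (G ⧸ U)))
            P'.2 hNc
          have : π y ∈ (P' : Subgroup (G ⧸ U)) ⊓ N' := ⟨mem_map_of_mem π hy.2, hy.1⟩
          rw [hbot, mem_bot] at this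
          exact (QuotientGroup.eq_one_iff y).mp this
        rw [h, top_inf_eq] at h2
        rw [h2, hu] at hb
        have := Nat.pow_right_injective (Fact.out : p.Prime).two_le hb
        omega
      haveI : Nontrivial (G ⧸ K) := QuotientGroup.nontrivial_iff.mpr hKt
      have hQp : IsPGroup p (G ⧸ K) := Cfsg.Lib.Transfer.isPGroup_quotient_of_index K hKi
      obtain ⟨M', hM', -⟩ :=
        (eq_top_or_exists_le_coatom (⊥ : Subgroup (G ⧸ K))).resolve_left bot_ne_top
      obtain ⟨hM'n, hM'i⟩ := Cfsg.Lib.PGroups.coatom_normal_index hQp hM'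
      set M := M'.comap (QuotientGroup.mk' K)
      haveI : M.Normal := inferInstance
      have hMi : M.index = p := by
        rw [index_comap_of_surjective _ (QuotientGroup.mk'_surjective K), hM'i]
      have hKM : K ≤ M := fun y hy => by
        rw [mem_comap, show QuotientGroup.mk' K y = 1 from (QuotientGroup.eq_one_iff y).mpr hy]
        exact one_mem M'
      have hMne : M ≠ ⊤ := fun h => by
        rw [h, index_top] at hMi
        exact (Fact.out : p.Prime).ne_one hMi.symm
      have hrel : ((P : Subgroup G).subgroupOf M).index = (P : Subgroup G).relIndex M := rfl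
      have hnd : ¬ p ∣ ((P : Subgroup G).subgroupOf M).index := fun h => P.not_dvd_index
        (h.trans (Cfsg.Lib.Components.relIndex_dvd_index_of_normal_right (P : Subgroup G) M))
      let S : Sylow p M := (P.2.comap_of_injective M.subtype M.subtype_injective).toSylow hnd
      have hSc : (S : Subgroup M) = (P : Subgroup G).subgroupOf M := rfl
      refine hfinal M (hKM hgK) (hUK.trans hKM) (main_subgroup ih hn hmin P hk hSC h4 M hMne S
        (by rw [hSc, subgroupOf_map_subtype]; exact inf_le_left) ?_)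
      change p ^ k < Nat.card (S : Subgroup M)
      obtain ⟨c, hc⟩ := IsPGroup.iff_card.mp S.2
      rw [hc]
      refine Nat.pow_lt_pow_right hp1 ?_
      have e1 := (S : Subgroup M).card_mul_index
      have e2 := M.card_mul_index
      have e3 := (P : Subgroup G).card_mul_index
      rw [hc] at e1
      rw [hMi, ← e1, ← e3, hb] at e2
      have hdvd : p ^ b ∣ p ^ (c + 1) * (S : Subgroup M).index :=
        ⟨(P : Subgroup G).index, by rw [← e2, pow_succ]; ring⟩
      have hcop : Nat.Coprime (p ^ b) (S : Subgroup M).index :=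
        Nat.Coprime.pow_left _ ((Fact.out : p.Prime).coprime_iff_not_dvd.mpr S.not_dvd_index)
      have := (Nat.pow_dvd_pow_iff_le_right hp1).mp (hcop.dvd_of_dvd_mul_right hdvd)
      omega
    · -- `|P| = p d`
      obtain rfl : b = k + 1 := by omega
      by_cases hfr : U ≤ (frattini (P : Subgroup G)).map (P : Subgroup G).subtype
      · refine hfinal K hgK hUK (Cfsg.Lib.Transfer.hasNormalPComplement_of_le_frattini P K
          (le_trans (fun y hy => ?_) hfr))
        have hbot := Cfsg.Lib.Components.coprime_pGroup_disjoint (A := (P' : Subgroup (G ⧸ U)))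
          P'.2 hNc
        have : π y ∈ (P' : Subgroup (G ⧸ U)) ⊓ N' := ⟨mem_map_of_mem π hy.2, hy.1⟩
        rw [hbot, mem_bot] at this
        exact (QuotientGroup.eq_one_iff y).mp this
      · obtain ⟨y, hyU, hyF⟩ := SetLike.not_le_iff_exists.mp hfr
        obtain ⟨M, hM, hyM⟩ : ∃ M : Subgroup (P : Subgroup G), IsCoatom M ∧
            (⟨y, hUP hyU⟩ : (P : Subgroup G)) ∉ M := by
          by_contra h
          push Not at h
          refine hyF ⟨⟨y, hUP hyU⟩, ?_, rfl⟩
          show _ ∈ frattini _
          simp only [frattini, Order.radical, mem_iInf]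
          exact h
        obtain ⟨-, hMi⟩ := Cfsg.Lib.PGroups.coatom_normal_index P.2 hM
        set T := M.map (P : Subgroup G).subtype
        have hT : Nat.card T = p ^ k := by
          rw [Subgroup.card_map_of_injective (P : Subgroup G).subtype_injective]
          have h1 := M.card_mul_index
          rw [hMi, hb, pow_succ] at h1
          exact Nat.eq_of_mul_eq_mul_right (Fact.out : p.Prime).pos h1
        rcases hminU (U ⊓ T) inf_le_left (fun g x hx => ⟨hUn.conj_mem x hx.1 g,
            hSC T (map_subtype_le _) hT g x hx.2 (hUconj g x hx.1)⟩) with h | h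
        · have hsup : Nat.card ↥(U ⊔ T) ≤ p ^ (k + 1) := by
            rw [← hb]; exact Subgroup.card_le_of_le (sup_le hUP (map_subtype_le _))
          rw [Cfsg.Lib.Coprime.card_sup_of_inf_eq_bot (le_top.trans (normalizer_eq_top (H := U)).ge) h,
            hu, hT, ← pow_add] at hsup
          have := (Nat.pow_le_pow_iff_right hp1).mp hsup
          obtain rfl : u = 1 := by omega
          have hxp : x ^ p ^ 1 = 1 := by
            have := orderOf_dvd_iff_pow_eq_one.mp ((Subgroup.orderOf_dvd_natCard U hx).trans hu.dvd)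
            exact this
          by_cases hx1 : x = 1
          · rw [hx1]; exact Commute.one_right g
          refine commute_of_normalizes_zpowers hmin hg hxp ?_
          have hz : zpowers x = U := by
            refine Subgroup.eq_of_le_of_card_ge (zpowers_le.mpr hx) ?_
            rw [Nat.card_zpowers, hu, pow_one]
            exact (orderOf_eq_prime (by simpa using hxp) hx1).ge
          exact hz.ge (hUn.conj_mem x hx g)
        · exfalso
          obtain ⟨y', hy', hyy⟩ := (h ▸ inf_le_right : U ≤ T) hyU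
          exact hyM (by rwa [show (⟨y, hUP hyU⟩ : (P : Subgroup G)) = y' from Subtype.ext hyy.symm])
  -- Frobenius' criterion
  apply hG
  refine Cfsg.Lib.Transfer.hasNormalPComplement_of_frobenius fun Q hQ g hgQ hg => ?_
  rw [mem_centralizer_iff]
  intro x hx
  have hbar := Cfsg.Lib.Transfer.centralize_of_hasNormalPComplement hquot (Q.map π) (hQ.map π) (π g)
    (le_normalizer_map π (mem_map_of_mem π hgQ)) (hg.coprime_dvd_left (orderOf_map_dvd π g))
  have h1 := mem_centralizer_iff.mp hbar (π x) (mem_map_of_mem π hx)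
  have hU' : x⁻¹ * (g * x * g⁻¹) ∈ U := by
    rw [← QuotientGroup.eq_one_iff]
    show π _ = 1
    rw [map_mul, map_mul, map_mul, map_inv, map_inv, ← h1, mul_inv_cancel_right, inv_mul_cancel]
  obtain ⟨m, hm⟩ := hUp ⟨_, hU'⟩
  exact (fixed_of_chain hg (congrArg Subtype.val hm : (x⁻¹ * (g * x * g⁻¹)) ^ p ^ m = 1)
    (hcent g hg _ hU') (mul_inv_cancel_left x _).symm).symm.eq

end Cfsg.Lib.HSub
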